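import Cfsg.Agent.Mrg.Omega.Half.Basic
import Cfsg.Agent.Mrg.Omega.Assembly
import Mathlib

section


/-!
# Counting central vectors (project OMEGA, II.d2 = (L3); bb OMEGA 13507 (C), 13999 (R4), 13727 (N1))

`W` a 2-group, `C ≤ W`, `ker W C` = the elements of `N(W) ∩ N(C)` which are trivial on the cosets of
`C` in `W`.  The index `l` is good (`Wit W C V l x`) if some `x ∈ ker W C` centralises the other
blocks `V i` and acts fixed point freely of order 3 on the block `V l`.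

`Cnt.card_zc` : `r` pairwise disjoint nonempty `T`-invariant sets of good indices give
`2 ^ (r + 1) ≤ |Ω₁ Z(WT)|`.
-/

set_option autoImplicit false

namespace Cfsg.Agent.Omega.IITwo.Count

open Subgroup Cfsg Cfsg.Agent.ZN

universe u

variable {G : Type u} [Group G]

theorem conj_mem {A : Subgroup G} {g x : G} (hg : g ∈ normalizer (A : Set G)) (hx : x ∈ A) :
    g * x * g⁻¹ ∈ A := (mem_normalizer_iff.mp hg x).mp hx

theorem conj_mem' {A : Subgroup G} {g x : G} (hg : g ∈ normalizer (A : Set G)) (hx : x ∈ A) :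
    g⁻¹ * x * g ∈ A := by
  have := conj_mem (inv_mem hg) hx
  rwa [inv_inv] at this

theorem mem_norm [Finite G] {A : Subgroup G} {g : G} (h : ∀ x ∈ A, g * x * g⁻¹ ∈ A) :
    g ∈ normalizer (A : Set G) := by
  have h1 : A.map (MulAut.conj g).toMonoidHom = A := by
    refine eq_of_le_of_card_ge ?_ ?_
    · rintro _ ⟨x, hx, rfl⟩
      exact h x hx
    · rw [card_map_of_injective (MulAut.conj g).injective]
  rw [mem_normalizer_iff]
  intro x
  refine ⟨h x, fun hx => ?_⟩
  rw [← h1] at hx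
  obtain ⟨y, hy, hxy⟩ := hx
  have h2 : g * y * g⁻¹ = g * x * g⁻¹ := by simpa using hxy
  have h3 := mul_left_cancel (mul_right_cancel h2)
  exact h3 ▸ hy

/-- The elements of `N(W) ∩ N(C)` trivial on the cosets of `C` in `W`. -/
def ker (W C : Subgroup G) : Subgroup G where
  carrier := {g | g ∈ normalizer (W : Set G) ∧ g ∈ normalizer (C : Set G) ∧
    ∀ w ∈ W, w⁻¹ * (g * w * g⁻¹) ∈ C}
  one_mem' := ⟨one_mem _, one_mem _, fun w _ => by simp⟩
  mul_mem' := by
    rintro a b ⟨ha1, ha2, ha3⟩ ⟨hb1, hb2, hb3⟩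
    refine ⟨mul_mem ha1 hb1, mul_mem ha2 hb2, fun w hw => ?_⟩
    have h1 := mul_mem (ha3 w hw) (conj_mem ha2 (hb3 w hw))
    have h2 : w⁻¹ * (a * w * a⁻¹) * (a * (w⁻¹ * (b * w * b⁻¹)) * a⁻¹) =
        w⁻¹ * (a * b * w * (a * b)⁻¹) := by group
    rwa [h2] at h1
  inv_mem' := by
    rintro a ⟨ha1, ha2, ha3⟩
    refine ⟨inv_mem ha1, inv_mem ha2, fun w hw => ?_⟩
    have h1 := conj_mem (inv_mem ha2) (inv_mem (ha3 w hw))
    have h2 : a⁻¹ * (w⁻¹ * (a * w * a⁻¹))⁻¹ * a⁻¹⁻¹ = w⁻¹ * (a⁻¹ * w * a⁻¹⁻¹) := by group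
    rwa [h2] at h1

theorem mem_ker {W C : Subgroup G} {g : G} : g ∈ ker W C ↔ g ∈ normalizer (W : Set G) ∧
    g ∈ normalizer (C : Set G) ∧ ∀ w ∈ W, w⁻¹ * (g * w * g⁻¹) ∈ C := Iff.rfl

theorem conj_mem_ker {W C : Subgroup G} {t g : G} (ht1 : t ∈ normalizer (W : Set G))
    (ht2 : t ∈ normalizer (C : Set G)) (hg : g ∈ ker W C) : t * g * t⁻¹ ∈ ker W C := by
  obtain ⟨h1, h2, h3⟩ := hg
  refine ⟨mul_mem (mul_mem ht1 h1) (inv_mem ht1), mul_mem (mul_mem ht2 h2) (inv_mem ht2),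
    fun w hw => ?_⟩
  have h4 := conj_mem ht2 (h3 _ (conj_mem' ht1 hw))
  have h5 : t * ((t⁻¹ * w * t)⁻¹ * (g * (t⁻¹ * w * t) * g⁻¹)) * t⁻¹ =
      w⁻¹ * (t * g * t⁻¹ * w * (t * g * t⁻¹)⁻¹) := by group
  rwa [h5] at h4

/-- The index `l` is good, witnessed by `x`. -/
structure Wit {ι : Type*} (W C : Subgroup G) (V : ι → Subgroup G) (l : ι) (x : G) : Prop where
  mem : x ∈ ker W C
  cent : ∀ i, i ≠ l → ∀ v ∈ V i, x * v = v * x
  nor : x ∈ normalizer (V l : Set G)
  three : ∀ v ∈ V l, v * (x * v * x⁻¹) * (x * (x * v * x⁻¹) * x⁻¹) = 1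

variable {ι : Type*} {W C T : Subgroup G} {V : ι → Subgroup G}

/-- `V l ≤ ker W C` for good `l`. -/
theorem Wit.le_ker {l : ι} {x : G} (h : Wit W C V l x) (hW : V l ≤ normalizer (W : Set G))
    (hC : V l ≤ normalizer (C : Set G)) (hsq : ∀ v ∈ V l, v * v = 1) : V l ≤ ker W C := by
  intro v hv
  have h1 := h.three v hv
  have hy : x * v * x⁻¹ ∈ V l := conj_mem h.nor hv
  have hy' : x * (x * v * x⁻¹) * x⁻¹ ∈ V l := conj_mem h.nor hy
  set y := x * v * x⁻¹ with hyd
  -- `v = y x y⁻¹ x⁻¹`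
  have h2 : (x * y * x⁻¹)⁻¹ = x * y * x⁻¹ := inv_eq_of_mul_eq_one_right (hsq _ hy')
  have h3 : v * (y * (x * y * x⁻¹)) = 1 := by rw [← mul_assoc]; exact h1
  have h4 : v = y * (x * y * x⁻¹) := by
    have h5 : v * v * (y * (x * y * x⁻¹)) = v := by rw [mul_assoc, h3, mul_one]
    rw [hsq v hv, one_mul] at h5
    exact h5.symm
  have h6 : v = (y * x * y⁻¹) * x⁻¹ := by
    calc v = y * (x * y * x⁻¹) := h4
      _ = y * (x * y * x⁻¹)⁻¹ := by rw [h2]
      _ = (y * x * y⁻¹) * x⁻¹ := by group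
  rw [h6]
  exact mul_mem (conj_mem_ker (hW hy) (hC hy) h.mem) (inv_mem h.mem)

/-- The data of the count. -/
structure Cnt (W C T : Subgroup G) (V : ι → Subgroup G) (J : Set ι) (x : ι → G) : Prop where
  W2 : IsPGroup 2 W
  T2 : IsPGroup 2 T
  TW : T ≤ normalizer (W : Set G)
  TC : T ≤ normalizer (C : Set G)
  VT : ∀ l ∈ J, V l ≤ T
  ne : ∀ l ∈ J, V l ≠ ⊥
  sq : ∀ l ∈ J, ∀ v ∈ V l, v * v = 1
  comm : ∀ i ∈ J, ∀ l ∈ J, ∀ u ∈ V i, ∀ v ∈ V l, u * v = v * u
  CV : ∀ l ∈ J, C ≤ centralizer (V l : Set G)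
  wit : ∀ l ∈ J, Wit W C V l (x l)
  perm : ∀ t ∈ T, ∀ l, ∃ m, (V l).map (MulAut.conj t).toMonoidHom = V m

/-- `⟨V_l^W : l ∈ O⟩`. -/
def NN (W : Subgroup G) (V : ι → Subgroup G) (O : Set ι) : Subgroup G :=
  closure {y | ∃ l ∈ O, ∃ w ∈ W, ∃ v ∈ V l, y = w * v * w⁻¹}

theorem NN_mono {O O' : Set ι} (h : O ⊆ O') : NN W V O ≤ NN W V O' :=
  closure_mono (by rintro y ⟨l, hl, w, hw, v, hv, rfl⟩; exact ⟨l, h hl, w, hw, v, hv, rfl⟩)

theorem mem_NN {O : Set ι} {l : ι} (hl : l ∈ O) {w v : G} (hw : w ∈ W) (hv : v ∈ V l) :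
    w * v * w⁻¹ ∈ NN W V O := subset_closure ⟨l, hl, w, hw, v, hv, rfl⟩

theorem le_NN {O : Set ι} {l : ι} (hl : l ∈ O) : V l ≤ NN W V O := fun v hv => by
  have := mem_NN (W := W) (V := V) hl (one_mem W) hv
  simpa using this

theorem W_le_normalizer_NN [Finite G] {O : Set ι} : W ≤ normalizer (NN W V O : Set G) := by
  intro w hw
  refine mem_norm ?_
  intro y hy
  induction hy using closure_induction with
  | mem y hy =>
    obtain ⟨l, hl, w', hw', v, hv, rfl⟩ := hy
    have := mem_NN (W := W) (V := V) hl (mul_mem hw hw') hv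
    have h2 : w * (w' * v * w'⁻¹) * w⁻¹ = w * w' * v * (w * w')⁻¹ := by group
    rw [h2]; exact this
  | one => simp
  | mul a b _ _ ha hb =>
    have : w * (a * b) * w⁻¹ = (w * a * w⁻¹) * (w * b * w⁻¹) := by group
    rw [this]; exact mul_mem ha hb
  | inv a _ ha =>
    have : w * a⁻¹ * w⁻¹ = (w * a * w⁻¹)⁻¹ := by group
    rw [this]; exact inv_mem ha

namespace Cnt

variable {J : Set ι} {x : ι → G}

section
variable (h : Cnt W C T V J x)
include h

theorem V_le_ker {l : ι} (hl : l ∈ J) : V l ≤ ker W C :=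
  (h.wit l hl).le_ker ((h.VT l hl).trans h.TW) ((h.VT l hl).trans h.TC) (h.sq l hl)

/-- equivariance: an element of `ker W C` normalising `V l` acts on `w v w⁻¹` as on `v`. -/
theorem equiv {l : ι} (hl : l ∈ J) {k w v : G} (hk : k ∈ ker W C) (hw : w ∈ W)
    (hkv : k * v * k⁻¹ ∈ V l) : k * (w * v * w⁻¹) * k⁻¹ = w * (k * v * k⁻¹) * w⁻¹ := by
  have h1 := mem_centralizer_iff.mp (h.CV l hl (hk.2.2 w hw)) _ hkv
  set c := w⁻¹ * (k * w * k⁻¹) with hc
  have h3 : k * w * k⁻¹ = w * c := by rw [hc]; group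
  calc k * (w * v * w⁻¹) * k⁻¹ = (k * w * k⁻¹) * (k * v * k⁻¹) * (k * w * k⁻¹)⁻¹ := by group
    _ = w * (c * (k * v * k⁻¹)) * c⁻¹ * w⁻¹ := by rw [h3]; group
    _ = w * ((k * v * k⁻¹) * c) * c⁻¹ * w⁻¹ := by rw [h1]
    _ = w * (k * v * k⁻¹) * w⁻¹ := by group

theorem comm_gen {i l : ι} (hi : i ∈ J) (hl : l ∈ J) {w w' u v : G} (hw : w ∈ W) (hw' : w' ∈ W)
    (hu : u ∈ V i) (hv : v ∈ V l) :
    (w * u * w⁻¹) * (w' * v * w'⁻¹) = (w' * v * w'⁻¹) * (w * u * w⁻¹) := by
  have h0 : u * v * u⁻¹ = v := by rw [h.comm i hi l hl u hu v hv]; group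
  have h1 : u * ((w⁻¹ * w') * v * (w⁻¹ * w')⁻¹) * u⁻¹ = (w⁻¹ * w') * v * (w⁻¹ * w')⁻¹ := by
    have := h.equiv hl (h.V_le_ker hi hu) (mul_mem (inv_mem hw) hw') (v := v) (by rw [h0]; exact hv)
    rw [this, h0]
  calc (w * u * w⁻¹) * (w' * v * w'⁻¹)
      = w * (u * ((w⁻¹ * w') * v * (w⁻¹ * w')⁻¹) * u⁻¹) * u * w⁻¹ := by group
    _ = w * ((w⁻¹ * w') * v * (w⁻¹ * w')⁻¹) * u * w⁻¹ := by rw [h1]
    _ = (w' * v * w'⁻¹) * (w * u * w⁻¹) := by group

theorem comm_NN {a b : G} (ha : a ∈ NN W V J) (hb : b ∈ NN W V J) : a * b = b * a := by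
  have key : NN W V J ≤ centralizer (NN W V J : Set G) := by
    rw [NN, centralizer_closure, closure_le]
    rintro a ⟨i, hi, w, hw, u, hu, rfl⟩
    rw [SetLike.mem_coe, mem_centralizer_iff]
    rintro b ⟨l, hl, w', hw', v, hv, rfl⟩
    exact (h.comm_gen hi hl hw hw' hu hv).symm
  exact mem_centralizer_iff.mp (key hb) a ha

theorem sq_NN {a : G} (ha : a ∈ NN W V J) : a * a = 1 := by
  induction ha using closure_induction with
  | mem y hy =>
    obtain ⟨l, hl, w, hw, v, hv, rfl⟩ := hy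
    have : w * v * w⁻¹ * (w * v * w⁻¹) = w * (v * v) * w⁻¹ := by group
    rw [this, h.sq l hl v hv]; group
  | one => simp
  | mul a b ha hb iha ihb =>
    have hc := h.comm_NN hb ha
    calc a * b * (a * b) = a * (b * a) * b := by group
      _ = a * (a * b) * b := by rw [hc]
      _ = (a * a) * (b * b) := by group
      _ = 1 := by rw [iha, ihb, one_mul]
  | inv a _ iha =>
    have : a⁻¹ * a⁻¹ = (a * a)⁻¹ := by group
    rw [this, iha, inv_one]

/-- `x i` centralises `NN O` if `i ∉ O`. -/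
theorem x_comm {i : ι} (hi : i ∈ J) {O : Set ι} (hO : O ⊆ J) (hiO : i ∉ O) {a : G}
    (ha : a ∈ NN W V O) : x i * a = a * x i := by
  induction ha using closure_induction with
  | mem y hy =>
    obtain ⟨l, hl, w, hw, v, hv, rfl⟩ := hy
    have hne : l ≠ i := fun e => hiO (e ▸ hl)
    have h0 : x i * v * (x i)⁻¹ = v := by rw [(h.wit i hi).cent l hne v hv]; group
    have h1 := h.equiv (hO hl) (h.wit i hi).mem hw (v := v) (by rw [h0]; exact hv)
    rw [h0] at h1
    calc x i * (w * v * w⁻¹) = x i * (w * v * w⁻¹) * (x i)⁻¹ * x i := by group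
      _ = w * v * w⁻¹ * x i := by rw [h1]
  | one => simp
  | mul a b _ _ iha ihb => rw [← mul_assoc, iha, mul_assoc, ihb, mul_assoc]
  | inv a _ iha =>
    calc x i * a⁻¹ = a⁻¹ * (a * x i) * a⁻¹ := by group
      _ = a⁻¹ * (x i * a) * a⁻¹ := by rw [iha]
      _ = a⁻¹ * x i := by group

theorem x_conj {i : ι} (hi : i ∈ J) {y : G} (hy : y ∈ NN W V ({i} : Set ι)) :
    x i * y * (x i)⁻¹ ∈ NN W V ({i} : Set ι) := by
  induction hy using closure_induction with
  | mem y hy =>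
    obtain ⟨l, hl, w, hw, v, hv, rfl⟩ := hy
    obtain rfl : l = i := hl
    have h1 := conj_mem (h.wit l hi).nor hv
    have e1 := h.equiv hi (h.wit l hi).mem hw (v := v) h1
    rw [e1]; exact mem_NN (Set.mem_singleton l) hw h1
  | one => simp
  | mul a b _ _ ha hb =>
    have : x i * (a * b) * (x i)⁻¹ = (x i * a * (x i)⁻¹) * (x i * b * (x i)⁻¹) := by group
    rw [this]; exact mul_mem ha hb
  | inv a _ ha =>
    have : x i * a⁻¹ * (x i)⁻¹ = (x i * a * (x i)⁻¹)⁻¹ := by group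
    rw [this]; exact inv_mem ha

/-- `x i` is fixed point free of order 3 on `NN {i}`. -/
theorem three_NN {i : ι} (hi : i ∈ J) {a : G} (ha : a ∈ NN W V ({i} : Set ι)) :
    a * (x i * a * (x i)⁻¹) * (x i * (x i * a * (x i)⁻¹) * (x i)⁻¹) = 1 := by
  have hsub : ({i} : Set ι) ⊆ J := Set.singleton_subset_iff.mpr hi
  have hJ : NN W V ({i} : Set ι) ≤ NN W V J := NN_mono hsub
  induction ha using closure_induction with
  | mem y hy =>
    obtain ⟨l, hl, w, hw, v, hv, rfl⟩ := hy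
    obtain rfl : l = i := hl
    have h1 := conj_mem (h.wit l hi).nor hv
    have h2 := conj_mem (h.wit l hi).nor h1
    have e1 := h.equiv hi (h.wit l hi).mem hw (v := v) h1
    have e2 := h.equiv hi (h.wit l hi).mem hw (v := x l * v * (x l)⁻¹) h2
    rw [e1, e2]
    have h3 := (h.wit l hi).three v hv
    generalize x l * (x l * v * (x l)⁻¹) * (x l)⁻¹ = y2 at *
    generalize x l * v * (x l)⁻¹ = y1 at *
    calc w * v * w⁻¹ * (w * y1 * w⁻¹) * (w * y2 * w⁻¹) = w * (v * y1 * y2) * w⁻¹ := by group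
      _ = 1 := by rw [h3]; group
  | one => simp
  | mul a b ha hb a2 b2 =>
    have a1 := h.x_conj hi ha
    have b1 := h.x_conj hi hb
    have a3 := h.x_conj hi a1
    have e1 : x i * (a * b) * (x i)⁻¹ = (x i * a * (x i)⁻¹) * (x i * b * (x i)⁻¹) := by group
    have e2 : x i * (x i * (a * b) * (x i)⁻¹) * (x i)⁻¹ =
        (x i * (x i * a * (x i)⁻¹) * (x i)⁻¹) * (x i * (x i * b * (x i)⁻¹) * (x i)⁻¹) := by group
    rw [e2, e1]
    have c1 : b * (x i * a * (x i)⁻¹) = (x i * a * (x i)⁻¹) * b := h.comm_NN (hJ hb) (hJ a1)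
    have c2 := h.comm_NN (hJ hb) (hJ a3)
    have c3 := h.comm_NN (hJ b1) (hJ a3)
    generalize x i * (x i * a * (x i)⁻¹) * (x i)⁻¹ = a'' at *
    generalize x i * (x i * b * (x i)⁻¹) * (x i)⁻¹ = b'' at *
    generalize x i * a * (x i)⁻¹ = a' at *
    generalize x i * b * (x i)⁻¹ = b' at *
    calc a * b * (a' * b') * (a'' * b'')
        = a * (b * a') * (b' * a'') * b'' := by group
      _ = a * (a' * b) * (a'' * b') * b'' := by rw [c1, c3]
      _ = a * a' * (b * a'') * b' * b'' := by group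
      _ = a * a' * (a'' * b) * b' * b'' := by rw [c2]
      _ = (a * a' * a'') * (b * b' * b'') := by group
      _ = 1 := by rw [a2, b2, one_mul]
  | inv a ha a2 =>
    have i1 : a⁻¹ = a := inv_eq_of_mul_eq_one_right (h.sq_NN (hJ ha))
    rw [i1]; exact a2

/-- no element `≠ 1` of `NN {i}` is centralised by `x i`. -/
theorem fix_one {i : ι} (hi : i ∈ J) {a : G} (ha : a ∈ NN W V ({i} : Set ι))
    (hx : x i * a = a * x i) : a = 1 := by
  have h1 := h.three_NN hi ha
  have h2 : x i * a * (x i)⁻¹ = a := by rw [hx]; group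
  rw [h2, h2] at h1
  have h3 := h.sq_NN (NN_mono (Set.singleton_subset_iff.mpr hi) ha)
  rw [h3, one_mul] at h1
  exact h1

/-- no element `≠ 1` of `NN O` is centralised by all `x l`, `l ∈ O`. -/
theorem fix_finset [DecidableEq ι] (O : Finset ι) (hO : (O : Set ι) ⊆ J) :
    ∀ a ∈ NN W V (O : Set ι), (∀ l ∈ O, x l * a = a * x l) → a = 1 := by
  induction O using Finset.induction_on with
  | empty =>
    intro a ha _
    have : NN W V ((∅ : Finset ι) : Set ι) = ⊥ := by
      rw [NN]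
      have : {y : G | ∃ l ∈ ((∅ : Finset ι) : Set ι), ∃ w ∈ W, ∃ v ∈ V l, y = w * v * w⁻¹} = ∅ := by
        ext y; simp
      rw [this, Subgroup.closure_empty]
    rw [this] at ha
    exact mem_bot.mp ha
  | insert i O hi ih =>
    intro a ha hx
    have hiJ : i ∈ J := hO (by simp)
    have hOJ : (O : Set ι) ⊆ J := fun l hl => hO (by simp at hl ⊢; exact Or.inr hl)
    have hsing : ({i} : Set ι) ⊆ J := Set.singleton_subset_iff.mpr hiJ
    have hle : NN W V ((insert i O : Finset ι) : Set ι) ≤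
        NN W V ({i} : Set ι) ⊔ NN W V (O : Set ι) := by
      rw [NN, closure_le]
      rintro y ⟨l, hl, w, hw, v, hv, rfl⟩
      simp only [Finset.coe_insert, Set.mem_insert_iff, Finset.mem_coe] at hl
      rcases hl with rfl | hl
      · exact mem_sup_left (mem_NN (Set.mem_singleton l) hw hv)
      · exact mem_sup_right (mem_NN hl hw hv)
    have hnor : NN W V ({i} : Set ι) ≤ normalizer (NN W V (O : Set ι) : Set G) := by
      intro y hy
      rw [mem_normalizer_iff]
      intro b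
      have key : ∀ b ∈ NN W V (O : Set ι), y * b * y⁻¹ = b := fun b hb => by
        rw [h.comm_NN (NN_mono hsing hy) (NN_mono hOJ hb)]; group
      constructor
      · intro hb; rw [key b hb]; exact hb
      · intro hb
        have h1 := h.comm_NN (NN_mono hsing hy) (NN_mono hOJ hb)
        have h2 : b = y * b * y⁻¹ := by
          calc b = y⁻¹ * (y * b * y⁻¹ * y) := by group
            _ = y⁻¹ * (y * (y * b * y⁻¹)) := by rw [← h1]
            _ = y * b * y⁻¹ := by group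
        rw [h2]; exact hb
    have ha' := hle ha
    rw [← SetLike.mem_coe, coe_mul_of_left_le_normalizer_right _ _ hnor] at ha'
    obtain ⟨n, hn, m, hm, rfl⟩ := ha'
    simp only at hx
    have hm1 : m = 1 := by
      refine ih hOJ m hm ?_
      intro l hl
      have h1 := hx l (Finset.mem_insert_of_mem hl)
      have h2 : x l * n = n * x l :=
        h.x_comm (hOJ hl) hsing (fun e => hi (by rw [Set.mem_singleton_iff] at e; rwa [← e])) hn
      have h3 : n * (x l * m) = n * (m * x l) := by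
        rw [← mul_assoc, ← h2, mul_assoc, h1, mul_assoc]
      exact mul_left_cancel h3
    subst hm1
    change n * 1 = 1
    simp only [mul_one] at hx ⊢
    exact h.fix_one hiJ hn (hx i (Finset.mem_insert_self _ _))

theorem fix [Finite ι] {O : Set ι} (hO : O ⊆ J) {a : G} (ha : a ∈ NN W V O)
    (hx : ∀ l ∈ O, x l * a = a * x l) : a = 1 := by
  classical
  have := Fintype.ofFinite ι
  refine h.fix_finset O.toFinset (by simpa using hO) a (by simpa using ha) ?_
  intro l hl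
  exact hx l (by simpa using hl)

/-! ### The central vectors -/

/-- `O` is `T`-invariant. -/
theorem T_le_normalizer_NN [Finite G] {O : Set ι}
    (hinv : ∀ t ∈ T, ∀ l ∈ O, ∃ m ∈ O, (V l).map (MulAut.conj t).toMonoidHom = V m) :
    T ≤ normalizer (NN W V O : Set G) := by
  intro t ht
  refine mem_norm ?_
  intro y hy
  induction hy using closure_induction with
  | mem y hy =>
    obtain ⟨l, hl, w, hw, v, hv, rfl⟩ := hy
    obtain ⟨m, hm, hml⟩ := hinv t ht l hl
    have h1 : t * v * t⁻¹ ∈ V m := by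
      rw [← hml]; exact ⟨v, hv, by simp⟩
    have h2 : t * w * t⁻¹ ∈ W := conj_mem (h.TW ht) hw
    have h3 : t * (w * v * w⁻¹) * t⁻¹ = (t * w * t⁻¹) * (t * v * t⁻¹) * (t * w * t⁻¹)⁻¹ := by group
    rw [h3]; exact mem_NN hm h2 h1
  | one => simp
  | mul a b _ _ ha hb =>
    have : t * (a * b) * t⁻¹ = (t * a * t⁻¹) * (t * b * t⁻¹) := by group
    rw [this]; exact mul_mem ha hb
  | inv a _ ha =>
    have : t * a⁻¹ * t⁻¹ = (t * a * t⁻¹)⁻¹ := by group
    rw [this]; exact inv_mem ha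

/-- A nontrivial central vector in `NN O`. -/
theorem exists_central [Finite G] {O : Set ι} (hO : O ⊆ J) (hne : O.Nonempty)
    (hinv : ∀ t ∈ T, ∀ l ∈ O, ∃ m ∈ O, (V l).map (MulAut.conj t).toMonoidHom = V m)
    {X : Subgroup G} (hX : IsPGroup 2 X) (hWT : X = W ⊔ T) :
    ∃ f ∈ NN W V O, f ≠ 1 ∧ f ∈ zc X := by
  obtain ⟨l, hl⟩ := hne
  have hN2 : IsPGroup 2 (NN W V O) := by
    rw [IsPGroup]
    rintro ⟨a, ha⟩
    refine ⟨1, ?_⟩
    ext
    have := h.sq_NN (NN_mono hO ha)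
    simpa [pow_two] using this
  have hN1 : NN W V O ≠ ⊥ := by
    intro h0
    apply h.ne l (hO hl)
    rw [eq_bot_iff, ← h0]
    exact le_NN hl
  have hXN : X ≤ normalizer (NN W V O : Set G) := by
    rw [hWT]
    exact sup_le W_le_normalizer_NN (h.T_le_normalizer_NN hinv)
  obtain ⟨f, hf, hf1, hfix⟩ := Half.exists_fixed hN2 hN1 hX hXN
  refine ⟨f, hf, hf1, ?_⟩
  have hfX : f ∈ X := by
    have : NN W V O ≤ X := by
      rw [NN, closure_le]
      rintro y ⟨i, hi, w, hw, v, hv, rfl⟩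
      rw [hWT]
      have h1 : w ∈ W ⊔ T := mem_sup_left hw
      have h2 : v ∈ W ⊔ T := mem_sup_right (h.VT i (hO hi) hv)
      exact mul_mem (mul_mem h1 h2) (inv_mem h1)
    exact this hf
  refine MinSimple.VModule.mem_zc.mpr ⟨hfX, fun y hy => ?_, ?_⟩
  · have h5 := hfix y hy
    calc y * f = y * f * y⁻¹ * y := by group
      _ = f * y := by rw [h5]
  · rw [pow_two]; exact h.sq_NN (NN_mono hO hf)

/-- **The count**: pairwise disjoint nonempty `T`-invariant sets `O i` (`i ∈ s`) of good indices and a central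
involution `z` of `X = WT` commuting with all the `x l` give `2 ^ (|s| + 1) ≤ |Ω₁ Z(X)|`. -/
theorem card_zc [Finite G] [Finite ι] {κ : Type*} [DecidableEq κ] (s : Finset κ) (O : κ → Set ι)
    (hO : ∀ i ∈ s, O i ⊆ J) (hne : ∀ i ∈ s, (O i).Nonempty)
    (hinv : ∀ i ∈ s, ∀ t ∈ T, ∀ l ∈ O i, ∃ m ∈ O i, (V l).map (MulAut.conj t).toMonoidHom = V m)
    (hdis : ∀ i ∈ s, ∀ j ∈ s, i ≠ j → Disjoint (O i) (O j))
    {X : Subgroup G} (hX : IsPGroup 2 X) (hWT : X = W ⊔ T)
    {z : G} (hz : z ∈ zc X) (hz1 : z ≠ 1) (hzx : ∀ l ∈ J, x l * z = z * x l) :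
    ∃ A : Subgroup G, A ≤ zc X ∧ (∀ l ∈ J, (∀ i ∈ s, l ∉ O i) → ∀ a ∈ A, x l * a = a * x l) ∧
      2 ^ (s.card + 1) ≤ Nat.card A := by
  induction s using Finset.induction_on with
  | empty =>
    refine ⟨zpowers z, zpowers_le.mpr hz, ?_, ?_⟩
    · intro l hl _ a ha
      obtain ⟨k, rfl⟩ := mem_zpowers_iff.mp ha
      exact (Commute.zpow_right (show Commute (x l) z from hzx l hl) k)
    · rw [Finset.card_empty, zero_add, pow_one, Nat.card_zpowers]
      have h1 : orderOf z ≠ 1 := fun e => hz1 (orderOf_eq_one_iff.mp e)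
      have h2 : 0 < orderOf z := orderOf_pos z
      omega
  | insert i s hi ih =>
    obtain ⟨A, hA, hAx, hcard⟩ := ih (fun j hj => hO j (Finset.mem_insert_of_mem hj))
      (fun j hj => hne j (Finset.mem_insert_of_mem hj))
      (fun j hj => hinv j (Finset.mem_insert_of_mem hj))
      (fun j hj k hk => hdis j (Finset.mem_insert_of_mem hj) k (Finset.mem_insert_of_mem hk))
    have hii := Finset.mem_insert_self i s
    obtain ⟨f, hf, hf1, hfz⟩ := h.exists_central (hO i hii) (hne i hii) (hinv i hii) hX hWT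
    have hfA : f ∉ A := by
      intro hfA
      apply hf1
      refine h.fix (hO i hii) hf ?_
      intro l hl
      refine hAx l (hO i hii hl) ?_ f hfA
      intro j hj hlj
      have hij : i ≠ j := fun e => hi (e ▸ hj)
      exact Set.disjoint_left.mp (hdis i hii j (Finset.mem_insert_of_mem hj) hij) hl hlj
    refine ⟨A ⊔ zpowers f, sup_le hA (zpowers_le.mpr hfz), ?_, ?_⟩
    · intro l hl hlO a ha
      have h1 : A ⊔ zpowers f ≤ centralizer ({x l} : Set G) := by
        refine sup_le ?_ ?_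
        · intro b hb
          refine mem_centralizer_iff.mpr ?_
          intro y hy
          rw [Set.mem_singleton_iff.mp hy]
          exact hAx l hl (fun j hj => hlO j (Finset.mem_insert_of_mem hj)) b hb
        · rw [zpowers_le]
          refine mem_centralizer_iff.mpr ?_
          intro y hy
          rw [Set.mem_singleton_iff.mp hy]
          exact h.x_comm hl (hO i hii) (hlO i hii) hf
      exact mem_centralizer_iff.mp (h1 ha) _ rfl
    · have h1 : A < A ⊔ zpowers f := by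
        refine lt_of_le_of_ne le_sup_left ?_
        intro e
        apply hfA
        rw [e]
        exact mem_sup_right (mem_zpowers f)
      have h2 : Nat.card A * A.relIndex (A ⊔ zpowers f) = Nat.card (A ⊔ zpowers f : Subgroup G) :=
        Half.card_mul_relIndex h1.le
      have h3 : A.relIndex (A ⊔ zpowers f) ≠ 1 := fun e => h1.not_ge (relIndex_eq_one.mp e)
      have h4 : A.relIndex (A ⊔ zpowers f) ≠ 0 := fun e => by
        rw [e, mul_zero] at h2
        exact Nat.card_pos.ne h2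
      rw [Finset.card_insert_of_notMem hi, ← h2, pow_succ]
      exact Nat.mul_le_mul hcard (by omega)

end

end Cnt

/-! ### The rank of `Ω₁ Z` along a chain -/

/-- `|Ω₁ Z(X)| ≤ |Ω₁ Z(X')| ^ 2` if `|X' : X| = 2`. -/
theorem card_zc_le_sq [Finite G] {X X' : Subgroup G} (hle : X ≤ X')
    (hidx : X.relIndex X' = 2) : Nat.card (zc X) ≤ Nat.card (zc X') ^ 2 := by
  classical
  have hne : X ≠ X' := by
    rintro rfl
    rw [relIndex_self] at hidx
    omega
  obtain ⟨t, ht, htX⟩ := SetLike.exists_of_lt (lt_of_le_of_ne hle hne)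
  have hidx' : (X.subgroupOf X').index = 2 := hidx
  have hnorm : X' ≤ normalizer (X : Set G) := by
    have : (X.subgroupOf X').Normal := normal_of_index_eq_two hidx'
    exact (normal_subgroupOf_iff_le_normalizer hle).mp this
  have htz : ∀ a ∈ zc X, t * a * t⁻¹ ∈ zc X := by
    intro a ha
    obtain ⟨h1, h2, h3⟩ := MinSimple.VModule.mem_zc.mp ha
    refine MinSimple.VModule.mem_zc.mpr ⟨conj_mem (hnorm ht) h1, fun b hb => ?_, ?_⟩
    · have h4 := h2 _ (conj_mem' (hnorm ht) hb)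
      calc b * (t * a * t⁻¹) = t * ((t⁻¹ * b * t) * a) * t⁻¹ := by group
        _ = t * (a * (t⁻¹ * b * t)) * t⁻¹ := by rw [h4]
        _ = t * a * t⁻¹ * b := by group
    · rw [conj_pow, h3]; group
  have hab : ∀ a ∈ zc X, ∀ b ∈ zc X, a * b = b * a := fun a ha b hb =>
    (MinSimple.VModule.mem_zc.mp hb).2.1 a (MinSimple.VModule.mem_zc.mp ha).1
  have htt : t * t ∈ X := by
    have h1 := mul_mem_iff_of_index_two hidx' (a := ⟨t, ht⟩) (b := ⟨t, ht⟩)
    have := h1.mpr Iff.rfl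
    exact mem_subgroupOf.mp this
  -- the commutator map
  let φ : zc X →* zc X :=
    { toFun := fun a => ⟨t * a * t⁻¹ * a, mul_mem (htz a a.2) a.2⟩
      map_one' := by ext; simp
      map_mul' := by
        rintro ⟨a, ha⟩ ⟨b, hb⟩
        ext
        have h1 := hab a ha _ (htz b hb)
        change t * (a * b) * t⁻¹ * (a * b) = t * a * t⁻¹ * a * (t * b * t⁻¹ * b)
        calc t * (a * b) * t⁻¹ * (a * b) = (t * a * t⁻¹) * (t * b * t⁻¹) * a * b := by group
          _ = (t * a * t⁻¹) * ((t * b * t⁻¹) * a) * b := by group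
          _ = (t * a * t⁻¹) * (a * (t * b * t⁻¹)) * b := by rw [h1]
          _ = t * a * t⁻¹ * a * (t * b * t⁻¹ * b) := by group }
  have hφ : ∀ a : zc X, ((φ a : zc X) : G) = t * a * t⁻¹ * a := fun a => rfl
  -- an element of `zc X` centralised by `t` is in `zc X'`
  have hcent : ∀ a ∈ zc X, t * a * t⁻¹ = a → a ∈ zc X' := by
    intro a ha hta
    obtain ⟨h1, h2, h3⟩ := MinSimple.VModule.mem_zc.mp ha
    have hta' : t * a = a * t := by
      calc t * a = t * a * t⁻¹ * t := by group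
        _ = a * t := by rw [hta]
    refine MinSimple.VModule.mem_zc.mpr ⟨hle h1, fun b hb => ?_, h3⟩
    by_cases hbX : b ∈ X
    · exact h2 b hbX
    · have h4 : t⁻¹ * b ∈ X := by
        have h5 := mul_mem_iff_of_index_two hidx' (a := (⟨t, ht⟩ : X')⁻¹) (b := ⟨b, hb⟩)
        rw [inv_mem_iff] at h5
        have h6 := h5.mpr (iff_of_false (fun h => htX (mem_subgroupOf.mp h))
          (fun h => hbX (mem_subgroupOf.mp h)))
        exact mem_subgroupOf.mp h6
      have h7 := h2 _ h4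
      calc b * a = t * (t⁻¹ * b * a) := by group
        _ = t * (a * (t⁻¹ * b)) := by rw [h7]
        _ = (t * a) * (t⁻¹ * b) := by group
        _ = (a * t) * (t⁻¹ * b) := by rw [hta']
        _ = a * b := by group
  have hker : ∀ a : zc X, φ a = 1 → (a : G) ∈ zc X' := by
    intro a ha
    refine hcent a a.2 ?_
    have h1 : t * (a : G) * t⁻¹ * a = 1 := congrArg Subtype.val ha
    have h2 : (a : G) * a = 1 := by
      have := (MinSimple.VModule.mem_zc.mp a.2).2.2
      rwa [pow_two] at this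
    have h3 : (a : G)⁻¹ = a := inv_eq_of_mul_eq_one_right h2
    exact (eq_inv_of_mul_eq_one_left h1).trans h3
  have hrange : ∀ a : zc X, ((φ a : zc X) : G) ∈ zc X' := by
    intro a
    refine hcent _ (φ a).2 ?_
    rw [hφ]
    have h1 := (MinSimple.VModule.mem_zc.mp a.2).2.1 _ htt
    have h2 := hab _ (htz a a.2) a a.2
    calc t * (t * (a : G) * t⁻¹ * a) * t⁻¹ = (t * t * a) * (t⁻¹ * t⁻¹) * (t * a * t⁻¹) := by group
      _ = (a * (t * t)) * (t⁻¹ * t⁻¹) * (t * a * t⁻¹) := by rw [h1]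
      _ = a * (t * a * t⁻¹) := by group
      _ = t * a * t⁻¹ * a := h2.symm
  have e1 : Nat.card φ.ker * Nat.card φ.range = Nat.card (zc X) := by
    rw [← Subgroup.index_ker φ]
    exact Subgroup.card_mul_index φ.ker
  have e2 : Nat.card φ.ker ≤ Nat.card (zc X') := by
    refine Nat.card_le_card_of_injective (fun a : φ.ker => (⟨((a : zc X) : G), hker a a.2⟩ : zc X')) ?_
    intro a b hab
    have := congrArg Subtype.val hab
    exact Subtype.ext (Subtype.ext this)
  have e3 : Nat.card φ.range ≤ Nat.card (zc X') := by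
    refine Nat.card_le_card_of_injective
      (fun a : φ.range => (⟨((a : zc X) : G), by
        obtain ⟨b, hb⟩ := a.2
        rw [← hb]; exact hrange b⟩ : zc X')) ?_
    intro a b hab
    have := congrArg Subtype.val hab
    exact Subtype.ext (Subtype.ext this)
  rw [← e1, pow_two]
  exact Nat.mul_le_mul e2 e3

end Cfsg.Agent.Omega.IITwo.Count

end

section


/-!
# Bad indices (project OMEGA, II.d2 = (L3), `q = 2`; bb OMEGA 13727 (N1) in element form)

`A` normalises all blocks `V l` (of order 4), `b l ∈ A` is nontrivial on `V l` and trivial on the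
other blocks, `e l` is of order 3 on `V l` and trivial on the other blocks.

* `wit_of_ker` : if `y ∈ A ∩ ker W C` is nontrivial on `V l` then `[e l, y]` makes `l` good;
* `two_pow_bad_le` : `2 ^ #bad ≤ |A : A ∩ ker W C|`;
* `relIndex_ker_dvd` : `|A : A ∩ ker W C|` divides `(|W : C| - 1)!`.
-/

set_option autoImplicit false

namespace Cfsg.Agent.Omega.IITwo.Count

open Subgroup Cfsg Cfsg.Agent.ZN

universe u

variable {G : Type u} [Group G] {ι : Type*} {W C A : Subgroup G} {V : ι → Subgroup G}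

theorem rel_ne [Finite G] (A B : Subgroup G) : A.relIndex B ≠ 0 :=
  index_ne_zero_of_finite (H := A.subgroupOf B)

/-- `e` acts on `V` as a fixed point free element of order 3. -/
def Three (V : Subgroup G) (e : G) : Prop :=
  ∀ v ∈ V, v * (e * v * e⁻¹) * (e * (e * v * e⁻¹) * e⁻¹) = 1

theorem cube_of_three {U : Subgroup G} {e : G} (hn : e ∈ normalizer (U : Set G)) (h : Three U e)
    (hc : ∀ u ∈ U, ∀ v ∈ U, u * v = v * u) {v : G} (hv : v ∈ U) :
    e * (e * (e * v * e⁻¹) * e⁻¹) * e⁻¹ = v := by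
  have h1 := conj_mem hn hv
  have h2 := conj_mem hn h1
  have h3 := conj_mem hn h2
  have e1 := h v hv
  have e2 := h _ h1
  generalize e * (e * (e * v * e⁻¹) * e⁻¹) * e⁻¹ = v3 at *
  generalize e * (e * v * e⁻¹) * e⁻¹ = v2 at *
  generalize e * v * e⁻¹ = v1 at *
  have e3 : v * (v1 * v2) = (v1 * v2) * v := hc v hv _ (mul_mem h1 h2)
  have e4 : (v1 * v2) * v = (v1 * v2) * v3 := by
    rw [← e3, ← mul_assoc, e1, e2]
  exact (mul_left_cancel e4).symm

/-- `y` inverts `e` on a block of order 4. -/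
theorem inverts [Finite G] {U : Subgroup G} (h4 : Nat.card U = 4) (hsq : ∀ u ∈ U, u * u = 1)
    (hc : ∀ u ∈ U, ∀ v ∈ U, u * v = v * u) {e y : G} (hen : e ∈ normalizer (U : Set G))
    (he : Three U e) (hyn : y ∈ normalizer (U : Set G)) (hy2 : IsPGroup 2 (zpowers y))
    (hy : ¬ zpowers y ≤ centralizer (U : Set G)) {v : G} (hv : v ∈ U) :
    (y * e⁻¹ * y⁻¹) * v * (y * e⁻¹ * y⁻¹)⁻¹ = e * v * e⁻¹ := by
  have hU2 : IsPGroup 2 U := by
    rintro ⟨a, ha⟩
    refine ⟨1, ?_⟩
    ext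
    have := hsq a ha
    simpa [pow_two] using this
  have hU1 : U ≠ ⊥ := by
    rintro rfl
    rw [card_bot] at h4
    omega
  obtain ⟨a, ha, ha1, hfix⟩ := Half.exists_fixed hU2 hU1 hy2 (zpowers_le.mpr hyn)
  have hya : y * a * y⁻¹ = a := hfix y (mem_zpowers y)
  set b := e * a * e⁻¹ with hb
  have hbU : b ∈ U := conj_mem hen ha
  have hthree := he a ha
  rw [← hb] at hthree
  have hab : a ≠ b := by
    intro hab
    rw [← hab] at hthree hb
    rw [hsq a ha, one_mul, ← hb] at hthree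
    exact ha1 hthree
  have hb1 : b ≠ 1 := by
    intro h
    apply ha1
    have : a = e⁻¹ * b * e := by rw [hb]; group
    rw [this, h]; group
  have hebe : e * b * e⁻¹ = a * b := by
    have h5 : (a * b) * (a * b) = 1 := hsq _ (mul_mem ha hbU)
    have h6 : (a * b) * (e * b * e⁻¹) = (a * b) * (a * b) := by rw [h5]; exact hthree
    exact mul_left_cancel h6
  have heab : e * (a * b) * e⁻¹ = a := by
    have h5 : e * (a * b) * e⁻¹ = (e * a * e⁻¹) * (e * b * e⁻¹) := by group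
    rw [h5, ← hb, hebe, ← mul_assoc, hc b hbU a ha, mul_assoc, hsq b hbU, mul_one]
  -- the four elements
  have hall : ∀ v ∈ U, v = 1 ∨ v = a ∨ v = b ∨ v = a * b := by
    classical
    have := Fintype.ofFinite U
    intro v hv
    by_contra hcon
    push Not at hcon
    obtain ⟨c1, c2, c3, c4⟩ := hcon
    have hab1 : a * b ≠ 1 := fun h => hab (by
      have := eq_inv_of_mul_eq_one_left h
      rw [inv_eq_of_mul_eq_one_right (hsq b hbU)] at this
      exact this)
    have hs : ({(⟨1, one_mem _⟩ : U), ⟨a, ha⟩, ⟨b, hbU⟩, ⟨a * b, mul_mem ha hbU⟩, ⟨v, hv⟩} :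
        Finset U).card = 5 := by
      rw [Finset.card_insert_of_notMem, Finset.card_insert_of_notMem, Finset.card_insert_of_notMem,
        Finset.card_insert_of_notMem, Finset.card_singleton]
      · simp only [Finset.mem_singleton, Subtype.mk.injEq]
        exact fun h => c4 h.symm
      · simp only [Finset.mem_insert, Finset.mem_singleton, Subtype.mk.injEq, not_or]
        exact ⟨fun h => ha1 (by
          have : 1 * b = a * b := by rw [one_mul]; exact h
          exact (mul_right_cancel this).symm), fun h => c3 h.symm⟩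
      · simp only [Finset.mem_insert, Finset.mem_singleton, Subtype.mk.injEq, not_or]
        exact ⟨hab, fun h => hb1 (by
          have : a * 1 = a * b := by rw [mul_one]; exact h
          exact (mul_left_cancel this).symm), fun h => c2 h.symm⟩
      · simp only [Finset.mem_insert, Finset.mem_singleton, Subtype.mk.injEq, not_or]
        exact ⟨fun h => ha1 h.symm, fun h => hb1 h.symm, fun h => hab1 h.symm, fun h => c1 h.symm⟩
    have h5 : Fintype.card U = 4 := by rw [← Nat.card_eq_fintype_card]; exact h4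
    have h6 := Finset.card_le_univ ({(⟨1, one_mem _⟩ : U), ⟨a, ha⟩, ⟨b, hbU⟩,
      ⟨a * b, mul_mem ha hbU⟩, ⟨v, hv⟩} : Finset U)
    omega
  -- `y` moves `b`
  have hyb : y * b * y⁻¹ = a * b := by
    have h5 : y * b * y⁻¹ ∈ U := conj_mem hyn hbU
    rcases hall _ h5 with h | h | h | h
    · exfalso
      apply hb1
      have : b = y⁻¹ * (y * b * y⁻¹) * y := by group
      rw [this, h]; group
    · exfalso
      apply hab
      have h6 : y * b * y⁻¹ = y * a * y⁻¹ := by rw [h, hya]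
      exact (mul_left_cancel (mul_right_cancel h6)).symm
    · exfalso
      apply hy
      rw [zpowers_le]
      refine mem_centralizer_iff.mpr ?_
      intro v hv
      have hyv : y * v * y⁻¹ = v := by
        rcases hall v hv with rfl | rfl | rfl | rfl
        · group
        · exact hya
        · exact h
        · have : y * (a * b) * y⁻¹ = (y * a * y⁻¹) * (y * b * y⁻¹) := by group
          rw [this, hya, h]
      calc v * y = y * v * y⁻¹ * y := by rw [hyv]
        _ = y * v := by group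
    · exact h
  have hyab : y * (a * b) * y⁻¹ = b := by
    have : y * (a * b) * y⁻¹ = (y * a * y⁻¹) * (y * b * y⁻¹) := by group
    rw [this, hya, hyb, ← mul_assoc, hsq a ha, one_mul]
  -- inverses
  have key : ∀ v ∈ U, y * (e * (y⁻¹ * (e * v * e⁻¹) * y) * e⁻¹) * y⁻¹ = v := by
    intro v hv
    have ya : y⁻¹ * a * y = a := by
      have : y⁻¹ * (y * a * y⁻¹) * y = a := by group
      rwa [hya] at this
    have yb : y⁻¹ * b * y = a * b := by
      have : y⁻¹ * (y * (a * b) * y⁻¹) * y = a * b := by group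
      rwa [hyab] at this
    have yab : y⁻¹ * (a * b) * y = b := by
      have : y⁻¹ * (y * b * y⁻¹) * y = b := by group
      rwa [hyb] at this
    rcases hall v hv with rfl | rfl | rfl | rfl
    · group
    · rw [← hb, yb, heab, hya]
    · rw [hebe, yab, hebe, hyab]
    · rw [heab, ya, ← hb, hyb]
  have h7 := key v hv
  calc (y * e⁻¹ * y⁻¹) * v * (y * e⁻¹ * y⁻¹)⁻¹
      = y * e⁻¹ * y⁻¹ * (y * (e * (y⁻¹ * (e * v * e⁻¹) * y) * e⁻¹) * y⁻¹) * (y * e⁻¹ * y⁻¹)⁻¹ := by
        rw [h7]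
    _ = e * v * e⁻¹ := by group

/-- If `y ∈ ker W C` normalises all blocks and is nontrivial on `V l`, then `l` is good. -/
theorem wit_of_ker [Finite G] {l : ι} (h4 : Nat.card (V l) = 4) (hsq : ∀ u ∈ V l, u * u = 1)
    (hc : ∀ u ∈ V l, ∀ v ∈ V l, u * v = v * u) {e y : G} (heW : e ∈ normalizer (W : Set G))
    (heC : e ∈ normalizer (C : Set G)) (hen : e ∈ normalizer (V l : Set G)) (he : Three (V l) e)
    (hecent : ∀ i, i ≠ l → ∀ v ∈ V i, e * v = v * e)
    (hyn : ∀ i, y ∈ normalizer (V i : Set G)) (hy2 : IsPGroup 2 (zpowers y))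
    (hyk : y ∈ ker W C) (hy : ¬ zpowers y ≤ centralizer (V l : Set G)) :
    Wit W C V l (e * y * e⁻¹ * y⁻¹) where
  mem := mul_mem (conj_mem_ker heW heC hyk) (inv_mem hyk)
  cent := by
    intro i hi v hv
    have h1 : y⁻¹ * v * y ∈ V i := conj_mem' (hyn i) hv
    have h2 : e * v = v * e := hecent i hi v hv
    have h3 : e * (y⁻¹ * v * y) = (y⁻¹ * v * y) * e := hecent i hi _ h1
    calc e * y * e⁻¹ * y⁻¹ * v = e * y * e⁻¹ * ((y⁻¹ * v * y) * e) * e⁻¹ * y⁻¹ := by group
      _ = e * y * e⁻¹ * (e * (y⁻¹ * v * y)) * e⁻¹ * y⁻¹ := by rw [h3]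
      _ = (e * v) * (y * e⁻¹ * y⁻¹) := by group
      _ = (v * e) * (y * e⁻¹ * y⁻¹) := by rw [h2]
      _ = v * (e * y * e⁻¹ * y⁻¹) := by group
  nor := mul_mem (mul_mem (mul_mem hen (hyn l)) (inv_mem hen)) (inv_mem (hyn l))
  three := by
    have hact : ∀ v ∈ V l, (e * y * e⁻¹ * y⁻¹) * v * (e * y * e⁻¹ * y⁻¹)⁻¹ =
        e * (e * v * e⁻¹) * e⁻¹ := by
      intro v hv
      have h1 := inverts h4 hsq hc hen he (hyn l) hy2 hy hv
      calc (e * y * e⁻¹ * y⁻¹) * v * (e * y * e⁻¹ * y⁻¹)⁻¹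
          = e * ((y * e⁻¹ * y⁻¹) * v * (y * e⁻¹ * y⁻¹)⁻¹) * e⁻¹ := by group
        _ = e * (e * v * e⁻¹) * e⁻¹ := by rw [h1]
    intro v hv
    have m1 := conj_mem hen hv
    have m2 := conj_mem hen m1
    have c3 := cube_of_three hen he hc hv
    rw [hact v hv, hact _ m2, c3]
    have c4 := he v hv
    generalize e * (e * v * e⁻¹) * e⁻¹ = v2 at *
    generalize e * v * e⁻¹ = v1 at *
    rw [mul_assoc, hc v2 m2 v1 m1, ← mul_assoc]
    exact c4

/-- The subgroup of `A` centralising the blocks in `B`. -/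
def AB (A : Subgroup G) (V : ι → Subgroup G) (B : Finset ι) : Subgroup G :=
  A ⊓ centralizer {g : G | ∃ l ∈ B, g ∈ V l}

theorem mem_AB {B : Finset ι} {g : G} : g ∈ AB A V B ↔ g ∈ A ∧ ∀ l ∈ B, ∀ v ∈ V l, v * g = g * v := by
  constructor
  · rintro ⟨h1, h2⟩
    exact ⟨h1, fun l hl v hv => mem_centralizer_iff.mp h2 v ⟨l, hl, hv⟩⟩
  · rintro ⟨h1, h2⟩
    refine ⟨h1, mem_centralizer_iff.mpr ?_⟩
    rintro v ⟨l, hl, hv⟩
    exact h2 l hl v hv

theorem two_pow_le_AB [Finite G] [DecidableEq ι] (B : Finset ι) {b : ι → G}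
    (hbA : ∀ l ∈ B, b l ∈ A) (hbc : ∀ l ∈ B, ∀ i, i ≠ l → ∀ v ∈ V i, v * b l = b l * v)
    (hbn : ∀ l ∈ B, ∃ v ∈ V l, v * b l ≠ b l * v) :
    2 ^ B.card ≤ (AB A V B).relIndex A := by
  induction B using Finset.induction_on with
  | empty =>
    rw [Finset.card_empty, pow_zero]
    exact Nat.pos_of_ne_zero (rel_ne _ _)
  | insert l B hl ih =>
    have h1 := ih (fun i hi => hbA i (Finset.mem_insert_of_mem hi))
      (fun i hi => hbc i (Finset.mem_insert_of_mem hi))
      (fun i hi => hbn i (Finset.mem_insert_of_mem hi))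
    have hle : AB A V (insert l B) ≤ AB A V B := by
      intro g hg
      rw [mem_AB] at hg ⊢
      exact ⟨hg.1, fun i hi => hg.2 i (Finset.mem_insert_of_mem hi)⟩
    have hlA : AB A V B ≤ A := inf_le_left
    have h2 := relIndex_mul_relIndex _ _ _ hle hlA
    have hll := Finset.mem_insert_self l B
    have h3 : (AB A V (insert l B)).relIndex (AB A V B) ≠ 1 := by
      intro h
      have h4 := relIndex_eq_one.mp h
      have h5 : b l ∈ AB A V B := by
        rw [mem_AB]
        exact ⟨hbA l hll, fun i hi v hv => hbc l hll i (fun e => hl (e ▸ hi)) v hv⟩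
      obtain ⟨v, hv, hne⟩ := hbn l hll
      exact hne ((mem_AB.mp (h4 h5)).2 l hll v hv)
    have h4 := rel_ne (AB A V (insert l B)) (AB A V B)
    rw [Finset.card_insert_of_notMem hl, pow_succ, ← h2, mul_comm]
    exact Nat.mul_le_mul (by omega) h1

/-- **`2 ^ #bad ≤ |A : A ∩ ker W C|`**. -/
theorem two_pow_bad_le [Finite G] [DecidableEq ι] (B : Finset ι) {b e : ι → G}
    (hA2 : IsPGroup 2 A) (hAn : ∀ i, A ≤ normalizer (V i : Set G))
    (h4 : ∀ l ∈ B, Nat.card (V l) = 4) (hsq : ∀ l ∈ B, ∀ u ∈ V l, u * u = 1)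
    (hc : ∀ l ∈ B, ∀ u ∈ V l, ∀ v ∈ V l, u * v = v * u)
    (hbA : ∀ l ∈ B, b l ∈ A) (hbc : ∀ l ∈ B, ∀ i, i ≠ l → ∀ v ∈ V i, v * b l = b l * v)
    (hbn : ∀ l ∈ B, ∃ v ∈ V l, v * b l ≠ b l * v)
    (heW : ∀ l ∈ B, e l ∈ normalizer (W : Set G)) (heC : ∀ l ∈ B, e l ∈ normalizer (C : Set G))
    (hen : ∀ l ∈ B, e l ∈ normalizer (V l : Set G)) (he : ∀ l ∈ B, Three (V l) (e l))
    (hec : ∀ l ∈ B, ∀ i, i ≠ l → ∀ v ∈ V i, e l * v = v * e l)
    (hbad : ∀ l ∈ B, ¬ ∃ x, Wit W C V l x) :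
    2 ^ B.card ≤ (ker W C).relIndex A := by
  refine (two_pow_le_AB B hbA hbc hbn).trans ?_
  rw [← inf_relIndex_right (ker W C) A]
  refine relIndex_le_of_le_left ?_ (rel_ne _ _)
  rintro y ⟨hyk, hyA⟩
  rw [mem_AB]
  refine ⟨hyA, fun l hl v hv => ?_⟩
  by_contra hne
  apply hbad l hl
  refine ⟨_, wit_of_ker (h4 l hl) (hsq l hl) (hc l hl) (heW l hl) (heC l hl) (hen l hl) (he l hl)
    (hec l hl) (fun i => hAn i hyA) (hA2.to_le (zpowers_le.mpr hyA)) hyk ?_⟩
  intro hle
  exact hne (mem_centralizer_iff.mp (hle (mem_zpowers y)) v hv)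

/-! ### The action on the cosets -/

section Action

variable (W C A)

/-- The action of `g` on the cosets of `C` in `W`. -/
def cosetMap (hAW : A ≤ normalizer (W : Set G)) (hAC : A ≤ normalizer (C : Set G)) (g : A) :
    W ⧸ C.subgroupOf W → W ⧸ C.subgroupOf W :=
  Quotient.map' (fun w => (⟨(g : G) * w * (g : G)⁻¹, conj_mem (hAW g.2) w.2⟩ : W)) (by
    intro a b hab
    rw [QuotientGroup.leftRel_apply, mem_subgroupOf] at hab ⊢
    have h1 : (((⟨(g : G) * a * (g : G)⁻¹, conj_mem (hAW g.2) a.2⟩ : W)⁻¹ *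
        ⟨(g : G) * b * (g : G)⁻¹, conj_mem (hAW g.2) b.2⟩ : W) : G) =
        (g : G) * ((a⁻¹ * b : W) : G) * (g : G)⁻¹ := by
      push_cast
      group
    rw [h1]
    exact conj_mem (hAC g.2) hab)

/-- The action of `A` on the cosets of `C` in `W`. -/
@[instance_reducible]
def cosetAction (hAW : A ≤ normalizer (W : Set G)) (hAC : A ≤ normalizer (C : Set G)) :
    MulAction A (W ⧸ C.subgroupOf W) where
  smul g := cosetMap W C A hAW hAC g
  one_smul := by
    rintro ⟨w⟩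
    change Quotient.mk'' _ = Quotient.mk'' _
    congr 1
    ext
    simp
  mul_smul := by
    rintro g h ⟨w⟩
    change Quotient.mk'' _ = Quotient.mk'' _
    congr 1
    ext
    simp [mul_assoc]

end Action

theorem card_stab_perm {X : Type*} [Finite X] (x : X) :
    Nat.card (MulAction.stabilizer (Equiv.Perm X) x) = (Nat.card X - 1).factorial := by
  classical
  have := Fintype.ofFinite X
  have h2 := MulAction.card_orbit_mul_card_stabilizer_eq_card_group (Equiv.Perm X) x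
  have h3 : Fintype.card (MulAction.orbit (Equiv.Perm X) x) = Fintype.card X := by
    refine Fintype.card_congr ((Equiv.setCongr ?_).trans (Equiv.Set.univ X))
    rw [Set.eq_univ_iff_forall]
    intro y
    exact ⟨Equiv.swap x y, Equiv.swap_apply_left x y⟩
  have h4 : 0 < Fintype.card X := Fintype.card_pos_iff.mpr ⟨x⟩
  rw [h3, Fintype.card_perm] at h2
  obtain ⟨n, hn⟩ := Nat.exists_eq_succ_of_ne_zero h4.ne'
  rw [hn, Nat.factorial_succ] at h2
  rw [Nat.card_eq_fintype_card, Nat.card_eq_fintype_card, hn, Nat.succ_sub_one]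
  exact Nat.eq_of_mul_eq_mul_left (Nat.succ_pos n) h2

theorem relIndex_ker_dvd [Finite G] (hAW : A ≤ normalizer (W : Set G))
    (hAC : A ≤ normalizer (C : Set G)) :
    (ker W C).relIndex A ∣ (C.relIndex W - 1).factorial := by
  classical
  let _ := cosetAction W C A hAW hAC
  have hsm : ∀ (g : A) (w : W), g • (QuotientGroup.mk w : W ⧸ C.subgroupOf W) =
      QuotientGroup.mk (⟨(g : G) * w * (g : G)⁻¹, conj_mem (hAW g.2) w.2⟩ : W) := fun _ _ => rfl
  let φ := MulAction.toPermHom A (W ⧸ C.subgroupOf W)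
  have hker : φ.ker = (ker W C).subgroupOf A := by
    ext g
    rw [MonoidHom.mem_ker, mem_subgroupOf, mem_ker]
    constructor
    · intro hg
      refine ⟨hAW g.2, hAC g.2, fun w hw => ?_⟩
      have h1 : g • (QuotientGroup.mk (⟨w, hw⟩ : W) : W ⧸ C.subgroupOf W) =
          QuotientGroup.mk (⟨w, hw⟩ : W) :=
        congrArg (fun p : Equiv.Perm (W ⧸ C.subgroupOf W) => p (QuotientGroup.mk (⟨w, hw⟩ : W))) hg
      rw [hsm] at h1
      have h2 := QuotientGroup.eq.mp h1.symm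
      rw [mem_subgroupOf] at h2
      exact h2
    · rintro ⟨-, -, h⟩
      ext x
      obtain ⟨w, rfl⟩ := QuotientGroup.mk_surjective x
      change g • (QuotientGroup.mk w : W ⧸ C.subgroupOf W) = QuotientGroup.mk w
      rw [hsm]
      refine (QuotientGroup.eq.mpr ?_).symm
      rw [mem_subgroupOf]
      exact h w w.2
  have hrange : φ.range ≤
      MulAction.stabilizer (Equiv.Perm (W ⧸ C.subgroupOf W))
        (QuotientGroup.mk (1 : W) : W ⧸ C.subgroupOf W) := by
    rintro _ ⟨g, rfl⟩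
    rw [MulAction.mem_stabilizer_iff]
    change g • (QuotientGroup.mk (1 : W) : W ⧸ C.subgroupOf W) = QuotientGroup.mk 1
    rw [hsm]
    congr 1
    ext
    simp
  have h1 : (ker W C).relIndex A = Nat.card φ.range := by
    rw [relIndex, ← hker, index_ker]
  rw [h1]
  refine (card_dvd_of_le hrange).trans ?_
  rw [card_stab_perm]
  rfl

/-- everything normalising `W` and `C` is trivial on the cosets if `|W : C| ≤ 2`. -/
theorem mem_ker_of_le_two [Finite G] {g : G} (hW : g ∈ normalizer (W : Set G))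
    (hC : g ∈ normalizer (C : Set G)) (h2 : C.relIndex W ≤ 2) : g ∈ ker W C := by
  refine ⟨hW, hC, fun w hw => ?_⟩
  by_cases hwC : w ∈ C
  · exact mul_mem (inv_mem hwC) (conj_mem hC hwC)
  have h1 : C.relIndex W = 2 := by
    have h3 : C.relIndex W ≠ 0 := rel_ne _ _
    have h4 : C.relIndex W ≠ 1 := fun h => hwC (relIndex_eq_one.mp h hw)
    omega
  have hgw : g * w * g⁻¹ ∈ W := conj_mem hW hw
  have hgwC : g * w * g⁻¹ ∉ C := fun h => hwC (by
    have := conj_mem' hC h
    have e : g⁻¹ * (g * w * g⁻¹) * g = w := by group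
    rwa [e] at this)
  have h5 : (C.subgroupOf W).index = 2 := h1
  have h6 := mul_mem_iff_of_index_two h5 (a := (⟨w, hw⟩ : W)⁻¹) (b := ⟨g * w * g⁻¹, hgw⟩)
  rw [inv_mem_iff] at h6
  have h7 := h6.mpr (iff_of_false (fun h => hwC (mem_subgroupOf.mp h))
    (fun h => hgwC (mem_subgroupOf.mp h)))
  exact mem_subgroupOf.mp h7

end Cfsg.Agent.Omega.IITwo.Count

end

section


/-!
# The structure of `Ω₁ Z(O₂(P))` (project OMEGA, II.d2 = (L3), `q = 2`; bb OMEGA 14650 (B), helper358)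

`P` with natural factors `V l` of order 4, `x l ∈ P` of order 3 on `V l` and trivial on the other
factors, `Q = O₂(P)`, `A = Ω₁ Z(Q) = zc Q`, `C_A(S) = ⟨z⟩`, `z ∈ ∏ V l`.

* `Blk.ker_of_odd` : `C_P(V)` centralises `A` if `|C_P(V) : Q|` is odd;
* `Blk.nh` : the projection `A → [A, x l]`, `Blk.nh_nh` (orthogonal), `Blk.eq_one_of_nh`,
  `Blk.prod_nh` : `A = ∏ [A, x l]` (direct);
* `Blk.fixed` : `C_{[A, x l]}(N_S(V l)) = ⟨z l⟩`;
* (B1) `Blk.fixed_one`, `Blk.fixed_two`.
-/

set_option autoImplicit false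

namespace Cfsg.Agent.Omega.IITwo.Three

open Subgroup Cfsg Cfsg.Agent.ZN Cfsg.Agent.MinSimple.VModule
open Cfsg.Agent.Omega.IITwo.Count (Three conj_mem conj_mem')
open scoped IsMulCommutative commutatorElement

universe u

/-! ### Commuting idempotents of an abelian group -/

section Idem

variable {A : Type*} [CommGroup A] {ι : Type*} {n : ι → A →* A}

theorem idem_eq_one (hc : ∀ i j a, n i (n j a) = n j (n i a)) (hi : ∀ i a, n i (n i a) = n i a)
    (s : Finset ι) : ∀ v ∈ ⨆ i ∈ s, (n i).range, (∀ i ∈ s, n i v = 1) → v = 1 := by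
  classical
  induction s using Finset.induction_on with
  | empty => intro v hv _; simpa using hv
  | insert i s his ih =>
    intro v hv hn
    rw [Finset.iSup_insert] at hv
    obtain ⟨_, ⟨a, rfl⟩, w, hw, rfl⟩ := Subgroup.mem_sup.mp hv
    have h1 : n i (n i a * w) = 1 := hn i (Finset.mem_insert_self i s)
    rw [map_mul, hi] at h1
    have h2 : n i a = (n i w)⁻¹ := eq_inv_of_mul_eq_one_left h1
    have h3 : n i w ∈ ⨆ j ∈ s, (n j).range := by
      have : ⨆ j ∈ s, (n j).range ≤ (⨆ j ∈ s, (n j).range).comap (n i) := by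
        refine iSup₂_le fun j hj => ?_
        rintro _ ⟨b, rfl⟩
        rw [Subgroup.mem_comap, hc]
        exact (le_iSup₂ (f := fun j (_ : j ∈ s) => (n j).range) j hj) ⟨n i b, rfl⟩
      exact this hw
    refine ih _ ?_ (fun j hj => hn j (Finset.mem_insert_of_mem hj))
    rw [h2]
    exact mul_mem (inv_mem h3) hw

/-- The sum of the isotypic parts which miss the type `{l}`. -/
def Nm [Fintype ι] [DecidableEq ι] (n : ι → A →* A) (l : ι) : Subgroup A :=
  (n l).ker ⊔ ⨆ i ∈ Finset.univ.erase l, (n i).range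

theorem eq_one_of_mem_Nm [Fintype ι] [DecidableEq ι] (hc : ∀ i j a, n i (n j a) = n j (n i a))
    (hi : ∀ i a, n i (n i a) = n i a) {z : A}
    (hz : ∀ l, z * (n l z)⁻¹ ∈ ⨆ i ∈ Finset.univ.erase l, (n i).range)
    (ho : ∀ i l, i ≠ l → n i (n l z) = 1) (hz1 : (∀ l, n l z = 1) → z = 1)
    (h : ∀ l, z ∈ Nm n l) : z = 1 := by
  refine hz1 fun l => ?_
  have h1 : n l z ∈ Nm n l := by
    have h2 : (z * (n l z)⁻¹)⁻¹ * z ∈ Nm n l :=
      mul_mem (inv_mem (mem_sup_right (hz l))) (h l)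
    have h3 : (z * (n l z)⁻¹)⁻¹ * z = n l z := by group
    rwa [h3] at h2
  obtain ⟨c, hc', d, hd, hcd⟩ := Subgroup.mem_sup.mp h1
  have h4 : n l z = n l d := by
    rw [← hi, ← hcd, map_mul, MonoidHom.mem_ker.mp hc', one_mul]
  have h5 : n l d ∈ ⨆ i ∈ Finset.univ.erase l, (n i).range := by
    have : ⨆ j ∈ Finset.univ.erase l, (n j).range ≤
        (⨆ j ∈ Finset.univ.erase l, (n j).range).comap (n l) := by
      refine iSup₂_le fun j hj => ?_
      rintro _ ⟨b, rfl⟩
      rw [Subgroup.mem_comap, hc]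
      exact (le_iSup₂ (f := fun j (_ : j ∈ Finset.univ.erase l) => (n j).range) j hj) ⟨n l b, rfl⟩
    exact this hd
  refine idem_eq_one hc hi (Finset.univ.erase l) _ (by rw [h4]; exact h5) ?_
  intro i hi'
  exact ho i l (Finset.ne_of_mem_erase hi')

end Idem

/-! ### Order 3 on a four-group -/

variable {G : Type u} [Group G]

theorem four_all [Finite G] {U : Subgroup G} (h4 : Nat.card U = 4) (hsq : ∀ u ∈ U, u * u = 1)
    {a b : G} (ha : a ∈ U) (hb : b ∈ U) (ha1 : a ≠ 1) (hb1 : b ≠ 1) (hab : a ≠ b) :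
    ∀ v ∈ U, v = 1 ∨ v = a ∨ v = b ∨ v = a * b := by
  classical
  have := Fintype.ofFinite U
  intro v hv
  by_contra hcon
  push Not at hcon
  obtain ⟨c1, c2, c3, c4⟩ := hcon
  have hab1 : a * b ≠ 1 := fun h => hab (by
    have := eq_inv_of_mul_eq_one_left h
    rw [inv_eq_of_mul_eq_one_right (hsq b hb)] at this
    exact this)
  have hs : ({(⟨1, one_mem _⟩ : U), ⟨a, ha⟩, ⟨b, hb⟩, ⟨a * b, mul_mem ha hb⟩, ⟨v, hv⟩} :
      Finset U).card = 5 := by
    rw [Finset.card_insert_of_notMem, Finset.card_insert_of_notMem, Finset.card_insert_of_notMem,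
      Finset.card_insert_of_notMem, Finset.card_singleton]
    · simp only [Finset.mem_singleton, Subtype.mk.injEq]
      exact fun h => c4 h.symm
    · simp only [Finset.mem_insert, Finset.mem_singleton, Subtype.mk.injEq, not_or]
      exact ⟨fun h => ha1 (by
        have : 1 * b = a * b := by rw [one_mul]; exact h
        exact (mul_right_cancel this).symm), fun h => c3 h.symm⟩
    · simp only [Finset.mem_insert, Finset.mem_singleton, Subtype.mk.injEq, not_or]
      exact ⟨hab, fun h => hb1 (by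
        have : a * 1 = a * b := by rw [mul_one]; exact h
        exact (mul_left_cancel this).symm), fun h => c2 h.symm⟩
    · simp only [Finset.mem_insert, Finset.mem_singleton, Subtype.mk.injEq, not_or]
      exact ⟨fun h => ha1 h.symm, fun h => hb1 h.symm, fun h => hab1 h.symm, fun h => c1 h.symm⟩
  have h5 : Fintype.card U = 4 := by rw [← Nat.card_eq_fintype_card]; exact h4
  have h6 := Finset.card_le_univ ({(⟨1, one_mem _⟩ : U), ⟨a, ha⟩, ⟨b, hb⟩,
    ⟨a * b, mul_mem ha hb⟩, ⟨v, hv⟩} : Finset U)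
  omega

/-- `e` of order 3 on the four-group `U` moves the elements `a ≠ 1` as `a → b → ab → a`. -/
theorem three_cycle {U : Subgroup G} (hsq : ∀ u ∈ U, u * u = 1)
    (hc : ∀ u ∈ U, ∀ v ∈ U, u * v = v * u) {e : G} (hen : e ∈ normalizer (U : Set G))
    (he : Three U e) {a : G} (ha : a ∈ U) (ha1 : a ≠ 1) :
    e * a * e⁻¹ ≠ 1 ∧ a ≠ e * a * e⁻¹ ∧ e * (e * a * e⁻¹) * e⁻¹ = a * (e * a * e⁻¹) ∧
      e * (a * (e * a * e⁻¹)) * e⁻¹ = a := by
  have hb : e * a * e⁻¹ ∈ U := conj_mem hen ha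
  have h3 := he a ha
  set b := e * a * e⁻¹ with hbd
  have hb1 : b ≠ 1 := by
    intro h
    apply ha1
    have : a = e⁻¹ * b * e := by rw [hbd]; group
    rw [this, h]; group
  have hab : a ≠ b := by
    intro hab
    have h4 : e * b * e⁻¹ = b := by
      conv_lhs => rw [← hab]
    rw [h4, ← hab, hsq a ha, one_mul] at h3
    exact ha1 h3
  have hebe : e * b * e⁻¹ = a * b := by
    have h5 : (a * b) * (a * b) = 1 := hsq _ (mul_mem ha hb)
    have h6 : (a * b) * (e * b * e⁻¹) = (a * b) * (a * b) := by rw [h5]; exact h3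
    exact mul_left_cancel h6
  refine ⟨hb1, hab, hebe, ?_⟩
  have h5 : e * (a * b) * e⁻¹ = (e * a * e⁻¹) * (e * b * e⁻¹) := by group
  rw [h5, ← hbd, hebe, ← mul_assoc, hc b hb a ha, mul_assoc, hsq b hb, mul_one]

/-- Two elements of order 3 on a four-group `U` are equal or inverse on `U`. -/
theorem three_cases [Finite G] {U : Subgroup G} (h4 : Nat.card U = 4) (hsq : ∀ u ∈ U, u * u = 1)
    (hc : ∀ u ∈ U, ∀ v ∈ U, u * v = v * u) {e f : G} (hen : e ∈ normalizer (U : Set G))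
    (he : Three U e) (hfn : f ∈ normalizer (U : Set G)) (hf : Three U f) :
    (∀ v ∈ U, f * v * f⁻¹ = e * v * e⁻¹) ∨ (∀ v ∈ U, f * v * f⁻¹ = e⁻¹ * v * e) := by
  have hU1 : U ≠ ⊥ := by
    rintro rfl
    rw [card_bot] at h4
    omega
  obtain ⟨a, ha, ha1⟩ := (Subgroup.ne_bot_iff_exists_ne_one (H := U)).mp hU1 |>.elim
    fun a ha => (⟨a, a.2, fun h => ha (Subtype.ext h)⟩ : ∃ a ∈ U, a ≠ 1)
  obtain ⟨hb1, hab, eb, eab⟩ := three_cycle hsq hc hen he ha ha1
  obtain ⟨fb1, hfab, fb, fab⟩ := three_cycle hsq hc hfn hf ha ha1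
  have hb : e * a * e⁻¹ ∈ U := conj_mem hen ha
  have hfb : f * a * f⁻¹ ∈ U := conj_mem hfn ha
  have hall := four_all h4 hsq ha hb ha1 hb1 hab
  have ea : e * a * e⁻¹ = e * a * e⁻¹ := rfl
  set b := e * a * e⁻¹ with hbd
  rcases hall _ hfb with h | h | h | h
  · exact absurd h fb1
  · exact absurd h.symm hfab
  · left
    rw [h] at fb fab
    intro v hv
    rcases hall v hv with rfl | rfl | rfl | rfl
    · group
    · rw [h]
    · rw [fb, eb]
    · rw [fab, eab]
  · right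
    rw [h] at fb fab
    have ia : e⁻¹ * a * e = a * b := by
      have : e⁻¹ * (e * (a * b) * e⁻¹) * e = a * b := by group
      rwa [eab] at this
    have ib : e⁻¹ * b * e = a := by rw [hbd]; group
    have iab : e⁻¹ * (a * b) * e = b := by
      have : e⁻¹ * (e * b * e⁻¹) * e = b := by group
      rwa [eb] at this
    have h5 : a * (a * b) = b := by rw [← mul_assoc, hsq a ha, one_mul]
    rw [h5] at fb fab
    intro v hv
    rcases hall v hv with rfl | rfl | rfl | rfl
    · group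
    · rw [h, ia]
    · rw [fab, ib]
    · rw [fb, iab]

/-! ### Groups of odd order on `Ω₁ Z(Q)` -/

instance zc_isMulCommutative (Q : Subgroup G) : IsMulCommutative (zc Q) :=
  IsMulCommutative.of_comm fun a b => Subtype.ext (zc_comm Q a a.2 b b.2)

/-- `C ⊴ P` with `|C : Q|` odd centralises `Ω₁ Z(Q)` if it centralises the only `S`-fixed involution. -/
theorem le_centralizer_of_odd [Finite G] {S P Q C : Subgroup G} {z : G}
    (hSP : S ≤ P) (hS : IsPGroup 2 S) (hPQ : P ≤ normalizer (Q : Set G))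
    (hPC : P ≤ normalizer (C : Set G)) (hCP : C ≤ P)
    (hodd : ¬ 2 ∣ Q.relIndex C) (hfix : ∀ a ∈ zc Q, (∀ s ∈ S, s * a = a * s) → a = 1 ∨ a = z)
    (hz : ∀ c ∈ C, c * z = z * c) : C ≤ centralizer (zc Q : Set G) := by
  classical
  have hPA : P ≤ normalizer (zc Q : Set G) := hPQ.trans (normalizer_le_normalizer_zc Q)
  have hBA : ⁅zc Q, C⁆ ≤ zc Q := by
    rw [commutator_le]
    intro a ha c hc
    have h1 : c * a⁻¹ * c⁻¹ ∈ zc Q := conj_mem (hPA (hCP hc)) (inv_mem ha)
    have h2 : ⁅a, c⁆ = a * (c * a⁻¹ * c⁻¹) := by rw [commutatorElement_def]; group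
    rw [h2]
    exact mul_mem ha h1
  rw [le_centralizer_iff, ← commutator_eq_bot_iff_le_centralizer]
  by_contra hne
  have hPB : P ≤ normalizer ((⁅zc Q, C⁆ : Subgroup G) : Set G) := by
    intro g hg
    refine Count.mem_norm ?_
    have : ⁅zc Q, C⁆ ≤ (⁅zc Q, C⁆ : Subgroup G).comap (MulAut.conj g).toMonoidHom := by
      rw [commutator_le]
      intro a ha c hc
      rw [mem_comap, map_commutatorElement]
      exact commutator_mem_commutator (conj_mem (hPA hg) ha) (conj_mem (hPC hg) hc)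
    exact fun x hx => this hx
  have hA2 : IsPGroup 2 (zc Q) := by
    rintro ⟨a, ha⟩
    exact ⟨1, Subtype.ext (by simpa using zc_sq Q a ha)⟩
  obtain ⟨v, hv, hv1, hvf⟩ := Half.exists_fixed (hA2.to_le hBA) hne hS (hSP.trans hPB)
  have hvz : v = z := by
    rcases hfix v (hBA hv) (fun s hs => by
      calc s * v = s * v * s⁻¹ * s := by group
        _ = v * s := by rw [hvf s hs]) with h | h
    · exact absurd h hv1
    · exact h
  -- the norm map
  let ψ : C →* MulAut (zc Q) :=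
    (normalizerMonoidHom (zc Q)).comp (Subgroup.inclusion (hCP.trans hPA))
  have hψ : ∀ (c : C) (a : zc Q), ((ψ c a : zc Q) : G) = c * a * (c : G)⁻¹ := fun c a => rfl
  let Qs : Subgroup C := Q.subgroupOf C
  have hnQ : Qs.Normal := normal_subgroupOf_of_le_normalizer (hCP.trans hPQ)
  have hQs : ∀ c ∈ Qs, ψ c = 1 := by
    intro c hc
    ext a
    rw [hψ]
    have h1 := (mem_zc.mp a.2).2.1 c (mem_subgroupOf.mp hc)
    rw [h1]
    simp
  have : Fintype (C ⧸ Qs) := Fintype.ofFinite _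
  let N : zc Q →* zc Q :=
    { toFun := fun a => ∏ q : C ⧸ Qs, ψ q.out a
      map_one' := by simp
      map_mul' := by intro a b; simp [Finset.prod_mul_distrib] }
  have hN : ∀ a, N a = ∏ q : C ⧸ Qs, ψ q.out a := fun a => rfl
  have hNc : ∀ (c : C) (a : zc Q), N (ψ c a) = N a := by
    intro c a
    rw [hN, hN]
    refine Fintype.prod_equiv (Equiv.mulRight (QuotientGroup.mk c : C ⧸ Qs)) _ _ ?_
    intro q
    change _ = ψ (Quotient.out (q * (QuotientGroup.mk c : C ⧸ Qs))) a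
    have h1 : q * (QuotientGroup.mk c : C ⧸ Qs) = QuotientGroup.mk (q.out * c) := by
      rw [QuotientGroup.mk_mul, QuotientGroup.out_eq']
    obtain ⟨h, hh⟩ := QuotientGroup.mk_out_eq_mul Qs (q.out * c)
    rw [h1, hh, map_mul, map_mul, hQs h h.2, mul_one, MulAut.mul_apply]
  have hker : ⁅zc Q, C⁆ ≤ N.ker.map (zc Q).subtype := by
    rw [commutator_le]
    intro a ha c hc
    refine ⟨(⟨a, ha⟩ : zc Q) * ψ ⟨c, hc⟩ (⟨a, ha⟩ : zc Q)⁻¹, ?_, ?_⟩
    · rw [SetLike.mem_coe, MonoidHom.mem_ker, map_mul, hNc, map_inv, mul_inv_cancel]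
    · rw [Subgroup.coe_subtype, Subgroup.coe_mul, hψ, commutatorElement_def]
      push_cast
      group
  obtain ⟨w, hw, hwv⟩ := hker hv
  have hwz : (w : G) = z := hwv.trans hvz
  have hNw : N w = w := by
    have h1 : ∀ q : C ⧸ Qs, ψ q.out w = w := by
      intro q
      ext
      rw [hψ, hwz, hz _ (q.out).2]
      group
    rw [hN, Finset.prod_congr rfl (fun q _ => h1 q), Finset.prod_const, Finset.card_univ,
      ← Nat.card_eq_fintype_card]
    have h2 : ¬ 2 ∣ Nat.card (C ⧸ Qs) := hodd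
    obtain ⟨k, hk⟩ : Odd (Nat.card (C ⧸ Qs)) := by
      rw [← Nat.not_even_iff_odd, even_iff_two_dvd]; exact h2
    have h3 : w ^ 2 = 1 := Subtype.ext (by simpa using zc_sq Q w w.2)
    rw [hk, pow_add, pow_mul, h3, one_pow, one_mul, pow_one]
  rw [MonoidHom.mem_ker.mp hw] at hNw
  apply hv1
  rw [hvz, ← hwz, ← hNw]
  rfl

/-! ### The blocks -/

/-- One side, `q = 2`: `A = Ω₁ Z(Q) = zc Q` with `Q = O₂(P)`, blocks `V l` of order 4 permuted by `P` and
transitively by `S`, `x l` of order 3 on `V l` and trivial on the other blocks, `C_A(S) = ⟨z⟩`. -/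
structure Blk {ι : Type*} (S P Q : Subgroup G) (V : ι → Subgroup G) (x : ι → G) (z : G) : Prop where
  SP : S ≤ P
  S2 : IsPGroup 2 S
  QS : Q ≤ S
  PQ : P ≤ normalizer (Q : Set G)
  VA : ∀ l, V l ≤ zc Q
  four : ∀ l, Nat.card (V l) = 4
  perm : ∀ g ∈ P, ∀ l, ∃ m, (V l).map (MulAut.conj g).toMonoidHom = V m
  inj : ∀ l m, V l = V m → l = m
  tr : ∀ l m, ∃ s ∈ S, (V l).map (MulAut.conj s).toMonoidHom = V m
  xP : ∀ l, x l ∈ P
  xn : ∀ l, x l ∈ normalizer (V l : Set G)
  x3 : ∀ l, Three (V l) (x l)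
  xc : ∀ l i, i ≠ l → ∀ v ∈ V i, x l * v = v * x l
  ker : ∀ g ∈ P, (∀ l, ∀ v ∈ V l, g * v = v * g) → ∀ a ∈ zc Q, g * a = a * g
  fix : ∀ a ∈ zc Q, (∀ s ∈ S, s * a = a * s) → a = 1 ∨ a = z
  zS : ∀ s ∈ S, s * z = z * s
  z1 : z ≠ 1
  zV : z ∈ ⨆ l, V l

namespace Blk

variable {ι : Type*} {S P Q : Subgroup G} {V : ι → Subgroup G} {x : ι → G} {z : G}

section
variable (B : Blk S P Q V x z)
include B

theorem PA : P ≤ normalizer (zc Q : Set G) := B.PQ.trans (normalizer_le_normalizer_zc Q)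

theorem sq {l : ι} {v : G} (hv : v ∈ V l) : v * v = 1 := by
  have := zc_sq Q v (B.VA l hv)
  rwa [pow_two] at this

theorem comm {i l : ι} {u v : G} (hu : u ∈ V i) (hv : v ∈ V l) : u * v = v * u :=
  zc_comm Q u (B.VA i hu) v (B.VA l hv)

end

/-- conjugation by `g ∈ P` on `A = zc Q`. -/
def cj (B : Blk S P Q V x z) (g : P) : zc Q →* zc Q :=
  (normalizerMonoidHom (zc Q) ⟨g, B.PA g.2⟩).toMonoidHom

theorem cj_coe (B : Blk S P Q V x z) (g : P) (a : zc Q) :
    ((B.cj g a : zc Q) : G) = g * a * (g : G)⁻¹ := rfl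

/-- the projection onto `[A, x l]`. -/
def nh (B : Blk S P Q V x z) (l : ι) : zc Q →* zc Q :=
  B.cj ⟨x l, B.xP l⟩ * B.cj (⟨x l, B.xP l⟩ : P)⁻¹

theorem nh_coe (B : Blk S P Q V x z) (l : ι) (a : zc Q) :
    ((B.nh l a : zc Q) : G) = x l * a * (x l)⁻¹ * ((x l)⁻¹ * a * x l) := by
  change ((B.cj ⟨x l, B.xP l⟩ a * B.cj (⟨x l, B.xP l⟩ : P)⁻¹ a : zc Q) : G) = _
  rw [Subgroup.coe_mul, cj_coe, cj_coe]
  simp

section
variable (B : Blk S P Q V x z)
include B

theorem cj_mul (g h : P) (a : zc Q) : B.cj (g * h) a = B.cj g (B.cj h a) := by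
  apply Subtype.ext
  rw [cj_coe, cj_coe, cj_coe]
  push_cast
  group

/-- elements of `P` which agree on the blocks agree on `A`. -/
theorem cj_eq {g h : P} (hgh : ∀ l, ∀ v ∈ V l, (g : G) * v * (g : G)⁻¹ = h * v * (h : G)⁻¹) :
    B.cj g = B.cj h := by
  ext a
  rw [cj_coe, cj_coe]
  have h1 := B.ker ((h : G)⁻¹ * g) (mul_mem (inv_mem h.2) g.2) (by
    intro l v hv
    calc (h : G)⁻¹ * g * v = (h : G)⁻¹ * (g * v * (g : G)⁻¹) * g := by group
      _ = (h : G)⁻¹ * (h * v * (h : G)⁻¹) * g := by rw [hgh l v hv]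
      _ = v * ((h : G)⁻¹ * g) := by group) a a.2
  calc (g : G) * a * (g : G)⁻¹ = h * ((h : G)⁻¹ * g * a) * (g : G)⁻¹ := by group
    _ = h * (a * ((h : G)⁻¹ * g)) * (g : G)⁻¹ := by rw [h1]
    _ = h * a * (h : G)⁻¹ := by group

/-- `x l` as an element of `P`. -/
theorem cj_three (l : ι) (a : zc Q) :
    B.cj ⟨x l, B.xP l⟩ (B.cj ⟨x l, B.xP l⟩ (B.cj ⟨x l, B.xP l⟩ a)) = a := by
  rw [← cj_mul, ← cj_mul, B.cj_eq (h := 1)]
  · apply Subtype.ext
    rw [cj_coe]
    simp
  · intro i v hv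
    by_cases hi : i = l
    · subst hi
      have h1 := Count.cube_of_three (B.xn i) (B.x3 i) (fun u hu w hw => B.comm hu hw) hv
      calc ((⟨x i, B.xP i⟩ * ⟨x i, B.xP i⟩ * ⟨x i, B.xP i⟩ : P) : G) * v *
            ((⟨x i, B.xP i⟩ * ⟨x i, B.xP i⟩ * ⟨x i, B.xP i⟩ : P) : G)⁻¹
          = x i * (x i * (x i * v * (x i)⁻¹) * (x i)⁻¹) * (x i)⁻¹ := by push_cast; group
        _ = v := h1
        _ = ((1 : P) : G) * v * ((1 : P) : G)⁻¹ := by simp
    · have h1 : x l * v * (x l)⁻¹ = v := by rw [B.xc l i hi v hv]; group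
      calc ((⟨x l, B.xP l⟩ * ⟨x l, B.xP l⟩ * ⟨x l, B.xP l⟩ : P) : G) * v *
            ((⟨x l, B.xP l⟩ * ⟨x l, B.xP l⟩ * ⟨x l, B.xP l⟩ : P) : G)⁻¹
          = x l * (x l * (x l * v * (x l)⁻¹) * (x l)⁻¹) * (x l)⁻¹ := by push_cast; group
        _ = v := by rw [h1, h1, h1]
        _ = ((1 : P) : G) * v * ((1 : P) : G)⁻¹ := by simp

theorem cj_inv (g : P) (a : zc Q) : B.cj g⁻¹ (B.cj g a) = a := by
  rw [← cj_mul]
  apply Subtype.ext
  rw [cj_coe]
  simp

theorem cj_inv' (g : P) (a : zc Q) : B.cj g (B.cj g⁻¹ a) = a := by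
  rw [← cj_mul]
  apply Subtype.ext
  rw [cj_coe]
  simp

theorem cj_xinv (l : ι) (a : zc Q) :
    B.cj (⟨x l, B.xP l⟩ : P)⁻¹ a = B.cj ⟨x l, B.xP l⟩ (B.cj ⟨x l, B.xP l⟩ a) := by
  conv_lhs => rw [← B.cj_three l a]
  rw [cj_inv]

theorem nh_apply (l : ι) (a : zc Q) :
    B.nh l a = B.cj ⟨x l, B.xP l⟩ a * B.cj ⟨x l, B.xP l⟩ (B.cj ⟨x l, B.xP l⟩ a) := by
  rw [← B.cj_xinv]
  rfl

omit B in
theorem sq_zc (a : zc Q) : a * a = 1 := by
  apply Subtype.ext
  have := zc_sq Q a a.2
  rwa [pow_two] at this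

theorem nh_idem (l : ι) (a : zc Q) : B.nh l (B.nh l a) = B.nh l a := by
  rw [B.nh_apply l (B.nh l a), B.nh_apply l a, map_mul, map_mul, B.cj_three]
  set u := B.cj ⟨x l, B.xP l⟩ a
  set v := B.cj ⟨x l, B.xP l⟩ u
  have h1 : a * a = 1 := sq_zc a
  rw [mul_assoc, ← mul_assoc a a u, h1, one_mul, mul_comm]

theorem cj_comm (i l : ι) (a : zc Q) :
    B.cj ⟨x i, B.xP i⟩ (B.cj ⟨x l, B.xP l⟩ a) = B.cj ⟨x l, B.xP l⟩ (B.cj ⟨x i, B.xP i⟩ a) := by
  by_cases hil : i = l
  · subst hil; rfl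
  rw [← cj_mul, ← cj_mul, B.cj_eq (h := ⟨x l, B.xP l⟩ * ⟨x i, B.xP i⟩)]
  intro j v hv
  have key : ∀ i l, i ≠ l → ∀ v ∈ V i, x i * (x l * v * (x l)⁻¹) * (x i)⁻¹ =
      x l * (x i * v * (x i)⁻¹) * (x l)⁻¹ := by
    intro i l hil v hv
    rw [B.xc l i hil v hv, B.xc l i hil _ (conj_mem (B.xn i) hv)]
    group
  have e1 : ∀ i l (v : G), ((⟨x i, B.xP i⟩ * ⟨x l, B.xP l⟩ : P) : G) * v *
      ((⟨x i, B.xP i⟩ * ⟨x l, B.xP l⟩ : P) : G)⁻¹ = x i * (x l * v * (x l)⁻¹) * (x i)⁻¹ := by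
    intro i l v
    push_cast
    group
  rw [e1, e1]
  by_cases hji : j = i
  · subst hji
    exact key j l hil v hv
  · by_cases hjl : j = l
    · subst hjl
      exact (key j i (Ne.symm hil) v hv).symm
    · rw [B.xc l j hjl v hv, B.xc i j hji v hv]
      have h2 : v * x l * (x l)⁻¹ = v := by group
      have h3 : v * x i * (x i)⁻¹ = v := by group
      rw [h2, h3, B.xc l j hjl v hv, B.xc i j hji v hv]
      group

theorem nh_comm (i l : ι) (a : zc Q) : B.nh i (B.nh l a) = B.nh l (B.nh i a) := by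
  have h1 := fun b => B.cj_comm i l b
  simp only [B.nh_apply, map_mul, h1]
  exact mul_mul_mul_comm _ _ _ _

omit B in
theorem mem_of_map {g : G} {l m : ι} (h : (V l).map (MulAut.conj g).toMonoidHom = V m) {u : G}
    (hu : u ∈ V l) : g * u * g⁻¹ ∈ V m := by
  rw [← h]
  exact ⟨u, hu, by simp⟩

omit B in
theorem mem_of_map' {g : G} {l m : ι} (h : (V l).map (MulAut.conj g).toMonoidHom = V m) {v : G}
    (hv : v ∈ V m) : g⁻¹ * v * g ∈ V l := by
  rw [← h] at hv
  obtain ⟨u, hu, rfl⟩ := hv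
  have : g⁻¹ * (MulAut.conj g).toMonoidHom u * g = u := by simp [mul_assoc]
  rw [this]
  exact hu

omit B in
theorem map_inv_of_map {g : G} {l m : ι} (h : (V l).map (MulAut.conj g).toMonoidHom = V m) :
    (V m).map (MulAut.conj g⁻¹).toMonoidHom = V l := by
  apply le_antisymm
  · rintro _ ⟨v, hv, rfl⟩
    have := mem_of_map' h hv
    simpa using this
  · intro u hu
    exact ⟨g * u * g⁻¹, mem_of_map h hu, by simp [mul_assoc]⟩

/-- the conjugate of `x l` by `g ∈ P` acts on `A` as `x m` or `(x m)⁻¹`. -/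
theorem cj_conj_x [Finite G] {g : P} {l m : ι}
    (h : (V l).map (MulAut.conj (g : G)).toMonoidHom = V m) :
    B.cj (g * ⟨x l, B.xP l⟩ * g⁻¹) = B.cj ⟨x m, B.xP m⟩ ∨
      B.cj (g * ⟨x l, B.xP l⟩ * g⁻¹) = B.cj (⟨x m, B.xP m⟩ : P)⁻¹ := by
  -- the conjugate of `x l`
  have hfn : (g : G) * x l * (g : G)⁻¹ ∈ normalizer (V m : Set G) := by
    refine Count.mem_norm fun v hv => ?_
    have h1 := mem_of_map h (conj_mem (B.xn l) (mem_of_map' h hv))
    have h2 : (g : G) * (x l * ((g : G)⁻¹ * v * g) * (x l)⁻¹) * (g : G)⁻¹ =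
        (g : G) * x l * (g : G)⁻¹ * v * ((g : G) * x l * (g : G)⁻¹)⁻¹ := by group
    rwa [h2] at h1
  have hf3 : Three (V m) ((g : G) * x l * (g : G)⁻¹) := by
    intro v hv
    have h1 := B.x3 l _ (mem_of_map' h hv)
    have h2 : v * ((g : G) * x l * (g : G)⁻¹ * v * ((g : G) * x l * (g : G)⁻¹)⁻¹) *
        ((g : G) * x l * (g : G)⁻¹ * ((g : G) * x l * (g : G)⁻¹ * v * ((g : G) * x l * (g : G)⁻¹)⁻¹) *
          ((g : G) * x l * (g : G)⁻¹)⁻¹) =
        (g : G) * (((g : G)⁻¹ * v * g) * (x l * ((g : G)⁻¹ * v * g) * (x l)⁻¹) *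
          (x l * (x l * ((g : G)⁻¹ * v * g) * (x l)⁻¹) * (x l)⁻¹)) * (g : G)⁻¹ := by group
    rw [h2, h1]
    group
  -- trivial on the other blocks
  have hoth : ∀ i, i ≠ m → ∀ v ∈ V i, (g : G) * x l * (g : G)⁻¹ * v * ((g : G) * x l * (g : G)⁻¹)⁻¹ = v := by
    intro i hi v hv
    obtain ⟨i', hi'⟩ := B.perm (g : G)⁻¹ (inv_mem g.2) i
    have hne : i' ≠ l := by
      rintro rfl
      apply hi
      have h1 := map_inv_of_map hi'
      rw [inv_inv] at h1
      exact B.inj _ _ (h1.symm.trans h)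
    have h1 : (g : G)⁻¹ * v * g ∈ V i' := by
      have := mem_of_map hi' hv
      rwa [inv_inv] at this
    have h2 := B.xc l i' hne _ h1
    calc (g : G) * x l * (g : G)⁻¹ * v * ((g : G) * x l * (g : G)⁻¹)⁻¹
        = (g : G) * (x l * ((g : G)⁻¹ * v * g)) * (x l)⁻¹ * (g : G)⁻¹ := by group
      _ = (g : G) * (((g : G)⁻¹ * v * g) * x l) * (x l)⁻¹ * (g : G)⁻¹ := by rw [h2]
      _ = v := by group
  have hoth2 : ∀ i, i ≠ m → ∀ v ∈ V i, x m * v * (x m)⁻¹ = v := by
    intro i hi v hv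
    rw [B.xc m i hi v hv]; group
  have hoth3 : ∀ i, i ≠ m → ∀ v ∈ V i, (x m)⁻¹ * v * (x m) = v := by
    intro i hi v hv
    have h1 := B.xc m i hi v hv
    rw [mul_assoc, ← h1]; group
  rcases three_cases (B.four m) (fun u hu => B.sq hu) (fun u hu v hv => B.comm hu hv) (B.xn m)
    (B.x3 m) hfn hf3 with hc | hc
  · left
    refine B.cj_eq ?_
    intro i v hv
    by_cases him : i = m
    · subst him
      exact hc v hv
    · exact (hoth i him v hv).trans (hoth2 i him v hv).symm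
  · right
    refine B.cj_eq ?_
    intro i v hv
    have h3 : (((⟨x m, B.xP m⟩ : P)⁻¹ : P) : G) * v * (((⟨x m, B.xP m⟩ : P)⁻¹ : P) : G)⁻¹ =
        (x m)⁻¹ * v * x m := by push_cast; group
    rw [h3]
    by_cases him : i = m
    · subst him
      exact hc v hv
    · exact (hoth i him v hv).trans (hoth3 i him v hv).symm

/-- equivariance of the projections. -/
theorem cj_nh [Finite G] {g : P} {l m : ι} (h : (V l).map (MulAut.conj (g : G)).toMonoidHom = V m)
    (a : zc Q) : B.cj g (B.nh l a) = B.nh m (B.cj g a) := by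
  have e0 : B.cj g (B.cj (⟨x l, B.xP l⟩ : P) a) = B.cj (g * ⟨x l, B.xP l⟩ * g⁻¹) (B.cj g a) := by
    rw [← cj_mul, ← cj_mul]; congr 1; group
  have e1 : B.cj g (B.cj (⟨x l, B.xP l⟩ : P)⁻¹ a) = B.cj (g * ⟨x l, B.xP l⟩ * g⁻¹)⁻¹ (B.cj g a) := by
    rw [← cj_mul, ← cj_mul]; congr 1; group
  have e2 : B.cj g (B.nh l a) = B.cj (g * ⟨x l, B.xP l⟩ * g⁻¹) (B.cj g a) *
      B.cj (g * ⟨x l, B.xP l⟩ * g⁻¹)⁻¹ (B.cj g a) := by
    rw [← e0, ← e1, ← map_mul]
    rfl
  have einv : ∀ p q : P, B.cj p = B.cj q → B.cj p⁻¹ = B.cj q⁻¹ := by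
    intro p q hpq
    ext b
    have h1 : B.cj p⁻¹ b = B.cj q⁻¹ b := by
      conv_lhs => rw [← B.cj_inv' q b, ← hpq]
      rw [cj_inv]
    rw [h1]
  rcases B.cj_conj_x h with h1 | h1
  · rw [e2, einv _ _ h1, h1]
    rfl
  · rw [e2, einv _ _ h1, h1, inv_inv, mul_comm]
    rfl

/-- `nh l` is the identity on `V l`. -/
theorem nh_self {l : ι} {v : zc Q} (hv : (v : G) ∈ V l) : B.nh l v = v := by
  apply Subtype.ext
  rw [nh_coe]
  have h3 := B.x3 l v hv
  have h4 := Count.cube_of_three (B.xn l) (B.x3 l) (fun u hu w hw => B.comm hu hw) hv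
  have h5 : (x l)⁻¹ * (v : G) * x l = x l * (x l * v * (x l)⁻¹) * (x l)⁻¹ := by
    conv_lhs => rw [← h4]
    group
  rw [h5]
  have h6 : (v : G) * v = 1 := B.sq hv
  have h7 : (v : G) * (v * ((x l * v * (x l)⁻¹) * (x l * (x l * v * (x l)⁻¹) * (x l)⁻¹))) = v := by
    rw [← mul_assoc (v : G) (x l * v * (x l)⁻¹), h3, mul_one]
  rw [← mul_assoc, h6, one_mul] at h7
  exact h7

/-- `nh l` is trivial on `V i`, `i ≠ l`. -/
theorem nh_other {i l : ι} (hil : i ≠ l) {v : zc Q} (hv : (v : G) ∈ V i) : B.nh l v = 1 := by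
  apply Subtype.ext
  rw [nh_coe]
  have h1 := B.xc l i hil v hv
  have h2 : x l * (v : G) * (x l)⁻¹ = v := by rw [h1]; group
  have h3 : (x l)⁻¹ * (v : G) * x l = v := by rw [mul_assoc, ← h1]; group
  rw [h2, h3]
  exact B.sq hv

/-- `nh l a = 1` iff `x l` centralises `a`. -/
theorem nh_eq_one {l : ι} {a : zc Q} : B.nh l a = 1 ↔ x l * (a : G) = a * x l := by
  constructor
  · intro h
    rw [nh_apply] at h
    have h1 := congrArg (B.cj ⟨x l, B.xP l⟩) h
    rw [map_one, map_mul, B.cj_three] at h1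
    have h2 : B.cj ⟨x l, B.xP l⟩ (B.cj ⟨x l, B.xP l⟩ a) = a⁻¹ := eq_inv_of_mul_eq_one_left h1
    have h3 : a⁻¹ = a := inv_eq_of_mul_eq_one_right (sq_zc a)
    rw [h3] at h2
    have h4 : B.cj ⟨x l, B.xP l⟩ a = a := by
      conv_lhs => rw [← h2]
      exact B.cj_three l a
    have h5 : x l * (a : G) * (x l)⁻¹ = a := congrArg Subtype.val h4
    calc x l * (a : G) = x l * a * (x l)⁻¹ * x l := by group
      _ = a * x l := by rw [h5]
  · intro h
    apply Subtype.ext
    rw [nh_coe]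
    have h2 : x l * (a : G) * (x l)⁻¹ = a := by rw [h]; group
    have h3 : (x l)⁻¹ * (a : G) * x l = a := by rw [mul_assoc, ← h]; group
    rw [h2, h3]
    exact congrArg Subtype.val (sq_zc a)

omit B in
theorem of_V {K : Subgroup (zc Q)} (hV : ∀ l, V l ≤ zc Q) (h : ∀ i, ∀ v : zc Q, (v : G) ∈ V i → v ∈ K)
    {w : zc Q} (hw : (w : G) ∈ ⨆ l, V l) : w ∈ K := by
  have h1 : ⨆ l, V l ≤ K.map (zc Q).subtype := by
    refine iSup_le fun i v hv => ?_
    exact ⟨⟨v, hV i hv⟩, h i _ hv, rfl⟩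
  obtain ⟨u, hu, huw⟩ := h1 hw
  have : u = w := Subtype.ext huw
  rwa [← this]

theorem zA : z ∈ zc Q := (iSup_le B.VA : ⨆ l, V l ≤ zc Q) B.zV

/-- the whole of `⨅ Nm` is trivial. -/
theorem eq_one_of_Nm [Finite G] [Fintype ι] [DecidableEq ι] {b : zc Q} (hb : ∀ l, b ∈ Nm B.nh l) :
    b = 1 := by
  by_contra hb1
  set K : Subgroup (zc Q) := ⨅ l, Nm B.nh l with hK
  have hbK : b ∈ K := mem_iInf.mpr hb
  have hKb : K.map (zc Q).subtype ≠ ⊥ := by
    intro h
    have h1 : (b : G) ∈ K.map (zc Q).subtype := ⟨b, hbK, rfl⟩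
    rw [h, mem_bot] at h1
    exact hb1 (Subtype.ext h1)
  have hA2 : IsPGroup 2 (zc Q) := by
    rintro ⟨a, ha⟩
    exact ⟨1, Subtype.ext (by simpa using zc_sq Q a ha)⟩
  have hinv : ∀ g : P, ∀ b ∈ K, B.cj g b ∈ K := by
    intro g b hbK
    rw [hK, mem_iInf] at hbK ⊢
    intro m
    obtain ⟨l, hl⟩ := B.perm (g : G)⁻¹ (inv_mem g.2) m
    have hlm : (V l).map (MulAut.conj (g : G)).toMonoidHom = V m := by
      have := map_inv_of_map hl
      rwa [inv_inv] at this
    have h1 : Nm B.nh l ≤ (Nm B.nh m).comap (B.cj g) := by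
      refine sup_le ?_ (iSup₂_le fun i hi => ?_)
      · intro a ha
        refine mem_sup_left ?_
        rw [MonoidHom.mem_ker] at ha ⊢
        rw [← B.cj_nh hlm, ha, map_one]
      · rintro _ ⟨a, rfl⟩
        refine mem_sup_right ?_
        obtain ⟨i', hi'⟩ := B.perm g g.2 i
        rw [B.cj_nh hi']
        have hne : i' ≠ m := by
          rintro rfl
          apply Finset.ne_of_mem_erase hi
          have h2 := map_inv_of_map hi'
          rw [map_inv_of_map hlm] at h2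
          exact (B.inj _ _ h2).symm
        exact (le_iSup₂ (f := fun j (_ : j ∈ Finset.univ.erase m) => (B.nh j).range) i'
          (Finset.mem_erase.mpr ⟨hne, Finset.mem_univ _⟩)) ⟨_, rfl⟩
    exact h1 (hbK l)
  have hSK : S ≤ normalizer ((K.map (zc Q).subtype : Subgroup G) : Set G) := by
    intro s hs
    refine Count.mem_norm ?_
    rintro _ ⟨a, ha, rfl⟩
    exact ⟨B.cj ⟨s, B.SP hs⟩ a, hinv _ a ha, rfl⟩
  obtain ⟨v, ⟨v', hv', hvv⟩, hv1, hfix⟩ := Half.exists_fixed (hA2.to_le (map_subtype_le K)) hKb B.S2 hSK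
  have hvz : v = z := by
    refine (B.fix v (hvv ▸ v'.2) fun s hs => ?_).resolve_left hv1
    calc s * v = s * v * s⁻¹ * s := by group
      _ = v * s := by rw [hfix s hs]
  have hzz : v' = ⟨z, B.zA⟩ := Subtype.ext (hvv.trans hvz)
  subst hzz
  have hz1 : (⟨z, B.zA⟩ : zc Q) = 1 := by
    refine eq_one_of_mem_Nm (n := B.nh) B.nh_comm B.nh_idem (z := ⟨z, B.zA⟩) ?_ ?_ ?_ (mem_iInf.mp hv')
    · intro l
      have h1 : (⟨z, B.zA⟩ : zc Q) ∈ (⨆ i ∈ Finset.univ.erase l, (B.nh i).range).comap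
          (MonoidHom.id (zc Q) * (B.nh l)⁻¹) := by
        refine of_V B.VA ?_ B.zV
        intro i v hv
        rw [mem_comap]
        change v * (B.nh l v)⁻¹ ∈ _
        by_cases hil : i = l
        · subst hil
          rw [B.nh_self hv, mul_inv_cancel]
          exact one_mem _
        · rw [B.nh_other hil hv, inv_one, mul_one, ← B.nh_self hv]
          exact (le_iSup₂ (f := fun j (_ : j ∈ Finset.univ.erase l) => (B.nh j).range) i
            (Finset.mem_erase.mpr ⟨hil, Finset.mem_univ _⟩)) ⟨_, rfl⟩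
      exact h1
    · intro i l hil
      have h1 : (⟨z, B.zA⟩ : zc Q) ∈ ((B.nh i).comp (B.nh l)).ker := by
        refine of_V B.VA ?_ B.zV
        intro j v hv
        rw [MonoidHom.mem_ker, MonoidHom.comp_apply]
        by_cases hjl : j = l
        · subst hjl
          rw [B.nh_self hv, B.nh_other (Ne.symm hil) hv]
        · rw [B.nh_other hjl hv, map_one]
      exact h1
    · intro h
      refine idem_eq_one B.nh_comm B.nh_idem Finset.univ _ ?_ fun i _ => h i
      refine of_V B.VA ?_ B.zV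
      intro i v hv
      rw [← B.nh_self hv]
      exact (le_iSup₂ (f := fun j (_ : j ∈ Finset.univ) => (B.nh j).range) i (Finset.mem_univ _)) ⟨_, rfl⟩
  exact B.z1 (congrArg Subtype.val hz1)

/-- LEMMA Z: `C_A(x l : l) = 1`. -/
theorem eq_one_of_nh [Finite G] [Finite ι] {a : zc Q} (h : ∀ l, B.nh l a = 1) : a = 1 := by
  classical
  have := Fintype.ofFinite ι
  exact B.eq_one_of_Nm fun l => mem_sup_left (MonoidHom.mem_ker.mpr (h l))

/-- LEMMA Z: the projections are orthogonal. -/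
theorem nh_nh [Finite G] [Finite ι] {i l : ι} (hil : i ≠ l) (a : zc Q) : B.nh i (B.nh l a) = 1 := by
  classical
  have := Fintype.ofFinite ι
  refine B.eq_one_of_Nm fun m => mem_sup_right ?_
  by_cases hm : i = m
  · subst hm
    rw [B.nh_comm]
    exact (le_iSup₂ (f := fun j (_ : j ∈ Finset.univ.erase i) => (B.nh j).range) l
      (Finset.mem_erase.mpr ⟨Ne.symm hil, Finset.mem_univ _⟩)) ⟨_, rfl⟩
  · exact (le_iSup₂ (f := fun j (_ : j ∈ Finset.univ.erase m) => (B.nh j).range) i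
      (Finset.mem_erase.mpr ⟨hm, Finset.mem_univ _⟩)) ⟨_, rfl⟩

/-- LEMMA Z: `a = ∏ nh l a`. -/
theorem prod_nh [Finite G] [Fintype ι] (a : zc Q) : ∏ l, B.nh l a = a := by
  classical
  have h1 : (∏ l, B.nh l a)⁻¹ * a = 1 := by
    refine B.eq_one_of_nh fun i => ?_
    rw [map_mul, map_inv, map_prod]
    have h2 : ∏ l, B.nh i (B.nh l a) = B.nh i a := by
      rw [Finset.prod_eq_single i, B.nh_idem]
      · intro l _ hl
        exact B.nh_nh (Ne.symm hl) a
      · intro h
        exact absurd (Finset.mem_univ i) h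
    rw [h2, inv_mul_cancel]
  exact (inv_mul_eq_one.mp h1)

omit B in
theorem map_mul_of_map {g h : G} {l m n : ι} (h1 : (V l).map (MulAut.conj h).toMonoidHom = V m)
    (h2 : (V m).map (MulAut.conj g).toMonoidHom = V n) :
    (V l).map (MulAut.conj (g * h)).toMonoidHom = V n := by
  rw [← h2, ← h1, Subgroup.map_map]
  congr 1
  ext y
  simp [mul_assoc]

omit B in
theorem mem_norm_of_map [Finite G] {g : G} {l : ι} (h : (V l).map (MulAut.conj g).toMonoidHom = V l) :
    g ∈ normalizer (V l : Set G) := Count.mem_norm fun _ hx => mem_of_map h hx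

omit B in
theorem map_of_mem_norm [Finite G] {g : G} {l : ι} (h : g ∈ normalizer (V l : Set G)) :
    (V l).map (MulAut.conj g).toMonoidHom = V l := by
  refine eq_of_le_of_card_ge ?_ ?_
  · rintro _ ⟨v, hv, rfl⟩
    exact conj_mem h hv
  · rw [card_map_of_injective (MulAut.conj g).injective]

/-- **LEMMA Z**: `C_{[A, x l]}(N_S(V l)) ≤ ⟨z l⟩`. -/
theorem fixed [Finite G] [Finite ι] {l : ι} {a : zc Q} (ha : B.nh l a = a)
    (hT : ∀ t ∈ S, t ∈ normalizer (V l : Set G) → t * (a : G) = a * t) :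
    a = 1 ∨ a = B.nh l ⟨z, B.zA⟩ := by
  classical
  have := Fintype.ofFinite ι
  choose s hsS hsV using fun m => B.tr l m
  set b : zc Q := ∏ m, B.cj ⟨s m, B.SP (hsS m)⟩ a with hb
  have hbS : ∀ (g : G) (hg : g ∈ S), B.cj ⟨g, B.SP hg⟩ b = b := by
    intro g hg
    choose σ hσ using B.perm g (B.SP hg)
    have hinj : Function.Injective σ := by
      intro m m' hmm
      have h1 := hσ m
      rw [hmm, ← hσ m'] at h1
      exact B.inj _ _ (Subgroup.map_injective (MulAut.conj g).injective h1)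
    have hbij : Function.Bijective σ := Finite.injective_iff_bijective.mp hinj
    rw [hb, map_prod]
    refine Fintype.prod_bijective σ hbij _ _ ?_
    intro m
    have h1 : (s (σ m))⁻¹ * (g * s m) ∈ S := mul_mem (inv_mem (hsS _)) (mul_mem hg (hsS m))
    have h2 : (s (σ m))⁻¹ * (g * s m) ∈ normalizer (V l : Set G) :=
      mem_norm_of_map (map_mul_of_map (map_mul_of_map (hsV m) (hσ m)) (map_inv_of_map (hsV (σ m))))
    have h3 := hT _ h1 h2
    apply Subtype.ext
    rw [cj_coe, cj_coe, cj_coe]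
    change g * (s m * a * (s m)⁻¹) * g⁻¹ = s (σ m) * a * (s (σ m))⁻¹
    calc g * (s m * a * (s m)⁻¹) * g⁻¹
        = s (σ m) * (((s (σ m))⁻¹ * (g * s m)) * a) * (g * s m)⁻¹ := by group
      _ = s (σ m) * (a * ((s (σ m))⁻¹ * (g * s m))) * (g * s m)⁻¹ := by rw [h3]
      _ = s (σ m) * a * (s (σ m))⁻¹ := by group
  have hnb : B.nh l b = a := by
    rw [hb, map_prod, Finset.prod_eq_single l]
    · have h1 : B.cj ⟨s l, B.SP (hsS l)⟩ a = a := by
        apply Subtype.ext
        rw [cj_coe]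
        have h2 := hT (s l) (hsS l) (mem_norm_of_map (hsV l))
        change s l * a * (s l)⁻¹ = a
        rw [h2]; group
      rw [h1, ha]
    · intro m _ hm
      obtain ⟨i, hi⟩ := B.perm (s m)⁻¹ (inv_mem (B.SP (hsS m))) l
      have hi' : (V i).map (MulAut.conj (s m)).toMonoidHom = V l := by
        have := map_inv_of_map hi
        rwa [inv_inv] at this
      have hil : i ≠ l := by
        rintro rfl
        exact hm (B.inj _ _ ((hsV m).symm.trans hi'))
      rw [← B.cj_nh (g := ⟨s m, B.SP (hsS m)⟩) hi', ← ha, B.nh_nh hil, map_one]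
    · intro h
      exact absurd (Finset.mem_univ l) h
  have hbz := B.fix b b.2 (fun g hg => by
    have h1 : g * (b : G) * g⁻¹ = b := congrArg Subtype.val (hbS g hg)
    calc g * (b : G) = g * b * g⁻¹ * g := by group
      _ = b * g := by rw [h1])
  rcases hbz with h | h
  · left
    have hb1 : b = 1 := Subtype.ext h
    rw [← hnb, hb1, map_one]
  · right
    rw [← hnb]
    congr 1
    exact Subtype.ext h

/-! ### The components of `z` -/

theorem zl_mem (l : ι) : ((B.nh l ⟨z, B.zA⟩ : zc Q) : G) ∈ V l := by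
  have h1 : (⟨z, B.zA⟩ : zc Q) ∈ ((V l).subgroupOf (zc Q)).comap (B.nh l) := by
    refine of_V B.VA ?_ B.zV
    intro i v hv
    rw [mem_comap, mem_subgroupOf]
    by_cases hil : i = l
    · subst hil
      rw [B.nh_self hv]; exact hv
    · rw [B.nh_other hil hv]; exact one_mem _
  exact h1

theorem zl_conj [Finite G] {s : G} (hs : s ∈ S) {l m : ι}
    (h : (V l).map (MulAut.conj s).toMonoidHom = V m) :
    s * ((B.nh l ⟨z, B.zA⟩ : zc Q) : G) * s⁻¹ = ((B.nh m ⟨z, B.zA⟩ : zc Q) : G) := by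
  have h1 := B.cj_nh (g := ⟨s, B.SP hs⟩) h ⟨z, B.zA⟩
  have h2 : B.cj ⟨s, B.SP hs⟩ ⟨z, B.zA⟩ = ⟨z, B.zA⟩ := by
    apply Subtype.ext
    rw [cj_coe]
    change s * z * s⁻¹ = z
    rw [B.zS s hs]; group
  rw [h2] at h1
  rw [← h1, cj_coe]

theorem zl_ne [Finite G] [Finite ι] (l : ι) : ((B.nh l ⟨z, B.zA⟩ : zc Q) : G) ≠ 1 := by
  intro h
  apply B.z1
  have h1 : (⟨z, B.zA⟩ : zc Q) = 1 := by
    refine B.eq_one_of_nh fun m => ?_
    obtain ⟨s, hs, hsV⟩ := B.tr l m
    apply Subtype.ext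
    rw [← B.zl_conj hs hsV, h]
    simp
  exact congrArg Subtype.val h1

end

/-- The component `z l` of `z` in `V l`. -/
def zl (B : Blk S P Q V x z) (l : ι) : G := ((B.nh l ⟨z, B.zA⟩ : zc Q) : G)

section
variable (B : Blk S P Q V x z)
include B

theorem zl_mem_V (l : ι) : B.zl l ∈ V l := B.zl_mem l

theorem zl_ne_one [Finite G] [Finite ι] (l : ι) : B.zl l ≠ 1 := B.zl_ne l

theorem zl_sq (l : ι) : B.zl l * B.zl l = 1 := B.sq (B.zl_mem l)

/-- `T l = N_S(V l)` centralises `z l`. -/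
theorem zl_cent [Finite G] {l : ι} {t : G} (ht : t ∈ S) (htV : t ∈ normalizer (V l : Set G)) :
    t * B.zl l = B.zl l * t := by
  have h1 := B.zl_conj ht (map_of_mem_norm htV)
  change t * B.zl l * t⁻¹ = B.zl l at h1
  calc t * B.zl l = t * B.zl l * t⁻¹ * t := by group
    _ = B.zl l * t := by rw [h1]

/-- `(B1)`: `C_A(T_o, x i : i ≠ o) ≤ ⟨z o⟩`. -/
theorem fixed_one [Finite G] [Finite ι] {o : ι} {a : G} (ha : a ∈ zc Q)
    (hx : ∀ i, i ≠ o → x i * a = a * x i)
    (hT : ∀ t ∈ S, t ∈ normalizer (V o : Set G) → t * a = a * t) : a = 1 ∨ a = B.zl o := by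
  classical
  have := Fintype.ofFinite ι
  have h1 : B.nh o ⟨a, ha⟩ = ⟨a, ha⟩ := by
    conv_rhs => rw [← B.prod_nh ⟨a, ha⟩]
    rw [Finset.prod_eq_single o]
    · intro i _ hi
      exact B.nh_eq_one.mpr (hx i hi)
    · intro h
      exact absurd (Finset.mem_univ o) h
  rcases B.fixed h1 hT with h | h
  · exact Or.inl (congrArg Subtype.val h)
  · exact Or.inr (congrArg Subtype.val h)

/-- if `T o` fixes the block `j` then `T o = T j`. -/
theorem normalizer_eq [Finite G] {o j : ι}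
    (hj : S ⊓ normalizer (V o : Set G) ≤ normalizer (V j : Set G)) :
    S ⊓ normalizer (V o : Set G) = S ⊓ normalizer (V j : Set G) := by
  refine eq_of_le_of_card_ge (le_inf inf_le_left hj) ?_
  obtain ⟨s, hs, hsV⟩ := B.tr o j
  have h1 : (S ⊓ normalizer (V j : Set G) : Subgroup G) ≤
      (S ⊓ normalizer (V o : Set G) : Subgroup G).map (MulAut.conj s).toMonoidHom := by
    rintro t ⟨ht1, ht2⟩
    have h0 : s⁻¹ * t * s ∈ S := mul_mem (mul_mem (inv_mem hs) ht1) hs
    refine ⟨s⁻¹ * t * s, ⟨h0, ?_⟩, by simp [mul_assoc]⟩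
    have h2 := map_mul_of_map (map_mul_of_map hsV (map_of_mem_norm ht2)) (map_inv_of_map hsV)
    have h3 := mem_norm_of_map h2
    have h4 : s⁻¹ * (t * s) = s⁻¹ * t * s := by group
    rwa [h4] at h3
  refine (card_le_of_le h1).trans ?_
  rw [card_map_of_injective (MulAut.conj s).injective]

/-- `(B1)`: `C_A(T_o, x i : i ≠ o, j) ≤ ⟨z o, z j⟩` if `T_o` fixes `j`. -/
theorem fixed_two [Finite G] [Finite ι] {o j : ι} (hoj : o ≠ j) {a : G} (ha : a ∈ zc Q)
    (hx : ∀ i, i ≠ o → i ≠ j → x i * a = a * x i)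
    (hT : ∀ t ∈ S, t ∈ normalizer (V o : Set G) → t * a = a * t)
    (hj : S ⊓ normalizer (V o : Set G) ≤ normalizer (V j : Set G)) :
    ∃ u ∈ ({1, B.zl o} : Set G), ∃ v ∈ ({1, B.zl j} : Set G), a = u * v := by
  classical
  have := Fintype.ofFinite ι
  set a' : zc Q := ⟨a, ha⟩ with ha'
  have hprod : B.nh o a' * B.nh j a' = a' := by
    conv_rhs => rw [← B.prod_nh a']
    rw [← Finset.mul_prod_erase Finset.univ _ (Finset.mem_univ o),
      ← Finset.mul_prod_erase (Finset.univ.erase o) _ (Finset.mem_erase.mpr ⟨Ne.symm hoj, Finset.mem_univ j⟩),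
      Finset.prod_eq_one, mul_one]
    intro i hi
    have h1 := Finset.ne_of_mem_erase hi
    have h2 := Finset.ne_of_mem_erase (Finset.mem_of_mem_erase hi)
    exact B.nh_eq_one.mpr (hx i h2 h1)
  have hTc : ∀ l, ∀ t ∈ S, t ∈ normalizer (V l : Set G) → t * a = a * t →
      t * ((B.nh l a' : zc Q) : G) = ((B.nh l a' : zc Q) : G) * t := by
    intro l t ht htV hta
    have h1 := B.cj_nh (g := ⟨t, B.SP ht⟩) (map_of_mem_norm htV) a'
    have h2 : B.cj ⟨t, B.SP ht⟩ a' = a' := by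
      apply Subtype.ext
      rw [cj_coe]
      change t * a * t⁻¹ = a
      rw [hta]; group
    rw [h2] at h1
    have h3 : t * ((B.nh l a' : zc Q) : G) * t⁻¹ = ((B.nh l a' : zc Q) : G) := congrArg Subtype.val h1
    calc t * ((B.nh l a' : zc Q) : G) = t * ((B.nh l a' : zc Q) : G) * t⁻¹ * t := by group
      _ = ((B.nh l a' : zc Q) : G) * t := by rw [h3]
  have heq := B.normalizer_eq hj
  refine ⟨_, ?_, _, ?_, (congrArg Subtype.val hprod).symm⟩
  · rcases B.fixed (B.nh_idem o a') (fun t ht htV => hTc o t ht htV (hT t ht htV)) with h | h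
    · left; exact congrArg Subtype.val h
    · right; exact congrArg Subtype.val h
  · rcases B.fixed (B.nh_idem j a') (fun t ht htV => hTc j t ht htV
      (hT t ht (heq.symm.le ⟨ht, htV⟩ : t ∈ S ⊓ normalizer (V o : Set G)).2)) with h | h
    · left; exact congrArg Subtype.val h
    · right; exact congrArg Subtype.val h

end

end Blk

end Cfsg.Agent.Omega.IITwo.Three

end

section


/-!
# THEOREM C, `q = 2`: Sylow tools

`exists_conj_le`, `sylow_normal` (Sylow's theorem for `S ∩ C`, `C` normal in `N ≥ S`),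
`exists_fixed_norm` (normalisers grow).
-/

set_option autoImplicit false

namespace Cfsg.Agent.Omega.ThmC

open Subgroup

universe u

variable {G : Type u} [Group G]

theorem exists_conj_le [Finite G] (S : Sylow 2 G) {N Y : Subgroup G} (hSN : (S : Subgroup G) ≤ N)
    (hY : IsPGroup 2 Y) (hYN : Y ≤ N) : ∃ g ∈ N, ∀ y ∈ Y, g * y * g⁻¹ ∈ (S : Subgroup G) := by
  haveI : Fact (Nat.Prime 2) := ⟨Nat.prime_two⟩
  have hY' : IsPGroup 2 (Y.subgroupOf N) := hY.comap_of_injective N.subtype N.subtype_injective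
  obtain ⟨R, hR⟩ := hY'.exists_le_sylow
  obtain ⟨g, hg⟩ := MulAction.exists_smul_eq N R (S.subtype hSN)
  refine ⟨g, g.2, fun y hy => ?_⟩
  have h1 : (⟨y, hYN hy⟩ : N) ∈ R := hR hy
  have h2 : g * ⟨y, hYN hy⟩ * g⁻¹ ∈ (g • R : Sylow 2 N) := by
    rw [Sylow.smul_def]
    exact Subgroup.smul_mem_pointwise_smul _ (MulAut.conj g) _ h1
  rw [hg] at h2
  exact h2

theorem sylow_normal [Finite G] (S : Sylow 2 G) {N C Y : Subgroup G} (hSN : (S : Subgroup G) ≤ N)
    (hCN : C ≤ N) (hN : N ≤ normalizer (C : Set G)) (hY : IsPGroup 2 Y) (hYC : Y ≤ C) :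
    ∃ c ∈ C, ∀ y ∈ Y, c * y * c⁻¹ ∈ (S : Subgroup G) ⊓ C := by
  haveI : Fact (Nat.Prime 2) := ⟨Nat.prime_two⟩
  have h0 : IsPGroup 2 ↥((S : Subgroup G) ⊓ C) := S.2.to_le inf_le_left
  have h0' : IsPGroup 2 (((S : Subgroup G) ⊓ C).subgroupOf C) :=
    h0.comap_of_injective C.subtype C.subtype_injective
  obtain ⟨R, hR⟩ := h0'.exists_le_sylow
  obtain ⟨g, hg, hg2⟩ := exists_conj_le S hSN (R.2.map C.subtype)
    ((map_subtype_le _).trans hCN)
  have h1 : ((R : Subgroup C).map C.subtype).map (MulAut.conj g).toMonoidHom ≤ (S : Subgroup G) ⊓ C := by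
    rintro _ ⟨y, hy, rfl⟩
    refine ⟨hg2 y hy, ?_⟩
    exact (mem_normalizer_iff.mp (hN hg) y).mp (map_subtype_le _ hy)
  have h2 : Nat.card R ≤ Nat.card ↥((S : Subgroup G) ⊓ C) := by
    have := card_le_of_le h1
    rwa [card_map_of_injective (MulAut.conj g).injective,
      card_map_of_injective C.subtype_injective] at this
  have h3 : ((S : Subgroup G) ⊓ C).subgroupOf C = R := by
    refine eq_of_le_of_card_ge hR ?_
    rw [Nat.card_congr (subgroupOfEquivOfLe (inf_le_right : (S : Subgroup G) ⊓ C ≤ C)).toEquiv]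
    exact h2
  have hY' : IsPGroup 2 (Y.subgroupOf C) := hY.comap_of_injective C.subtype C.subtype_injective
  obtain ⟨R2, hR2⟩ := hY'.exists_le_sylow
  obtain ⟨c, hc⟩ := MulAction.exists_smul_eq C R2 R
  refine ⟨c, c.2, fun y hy => ?_⟩
  have h4 : (⟨y, hYC hy⟩ : C) ∈ R2 := hR2 hy
  have h5 : c * ⟨y, hYC hy⟩ * c⁻¹ ∈ (c • R2 : Sylow 2 C) := by
    rw [Sylow.smul_def]
    exact Subgroup.smul_mem_pointwise_smul _ (MulAut.conj c) _ h4
  rw [hc] at h5
  have h6 : c * ⟨y, hYC hy⟩ * c⁻¹ ∈ ((S : Subgroup G) ⊓ C).subgroupOf C := by rw [h3]; exact h5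
  exact h6

/-- a 2-subgroup `Y ≤ C` normalised by `S ∩ C` lies in `S ∩ C`. -/
theorem le_of_normalized [Finite G] (S : Sylow 2 G) {N C Y : Subgroup G} (hSN : (S : Subgroup G) ≤ N)
    (hCN : C ≤ N) (hN : N ≤ normalizer (C : Set G)) (hY : IsPGroup 2 Y) (hYC : Y ≤ C)
    (hn : (S : Subgroup G) ⊓ C ≤ normalizer (Y : Set G)) : Y ≤ S := by
  have h2 : IsPGroup 2 ↥((S : Subgroup G) ⊓ C ⊔ Y) :=
    (S.2.to_le inf_le_left : IsPGroup 2 ↥((S : Subgroup G) ⊓ C)).to_sup_of_normal_right' hY hn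
  obtain ⟨c, hc, hc2⟩ := sylow_normal S hSN hCN hN h2 (sup_le inf_le_right hYC)
  have h3 : ((S : Subgroup G) ⊓ C ⊔ Y).map (MulAut.conj c).toMonoidHom ≤ (S : Subgroup G) ⊓ C := by
    rintro _ ⟨y, hy, rfl⟩
    exact hc2 y hy
  have h4 := card_le_of_le h3
  rw [card_map_of_injective (MulAut.conj c).injective] at h4
  have h5 : (S : Subgroup G) ⊓ C = (S : Subgroup G) ⊓ C ⊔ Y := eq_of_le_of_card_ge le_sup_left h4
  exact (le_sup_right.trans h5.ge).trans inf_le_left

/-- normalisers grow: `B < A`, `A` a 2-group normalised by .. : there is `n ∈ A ∖ B` normalising `B`. -/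
theorem exists_normalizer [Finite G] {A B : Subgroup G} (hA : IsPGroup 2 A) (hBA : B ≤ A) (hne : ¬ A ≤ B) :
    ∃ n ∈ A, n ∉ B ∧ n ∈ normalizer (B : Set G) := by
  haveI : Fact (Nat.Prime 2) := ⟨Nat.prime_two⟩
  haveI : Group.IsNilpotent A := hA.isNilpotent
  have h1 : B.subgroupOf A < ⊤ := by
    rw [lt_top_iff_ne_top]
    intro h
    exact hne (subgroupOf_eq_top.mp h)
  have h2 := normalizerCondition_of_isNilpotent (G := A) _ h1
  obtain ⟨n, hn, hn2⟩ := SetLike.exists_of_lt h2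
  refine ⟨n, n.2, hn2, ?_⟩
  rw [mem_normalizer_iff]
  intro b
  have h3 := mem_normalizer_iff.mp hn
  constructor
  · intro hb
    exact (h3 ⟨b, hBA hb⟩).mp hb
  · intro hb
    have hb2 : b ∈ A := by
      have := mul_mem (mul_mem (inv_mem n.2) (hBA hb)) n.2
      have h4 : (n : G)⁻¹ * (n * b * (n : G)⁻¹) * n = b := by group
      rwa [h4] at this
    exact (h3 ⟨b, hb2⟩).mpr hb

end Cfsg.Agent.Omega.ThmC

end

section


/-!
# THEOREM C, plug: coprime action on elementary abelian 2-groups (helper334)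

* `tr` : a group `K` acts on the elementary abelian 2-group `A`, the 2-elements of `K` act trivially: an element of
  `⁅K, A⁆` centralised by `K` is trivial;
* `le_centralizer_of_fixed` : if moreover a 2-group `S` normalises `K` and `A` and `C_A(S)` is centralised by `K`,
  then `K` centralises `A`.
-/

set_option autoImplicit false

namespace Cfsg.Agent.Omega.ThmC

open Subgroup

universe u

variable {G : Type u} [Group G] [Finite G]

/-- `K` acts on the elementary abelian 2-group `A`, the 2-elements of `K` act trivially. An element of `⁅K, A⁆`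
centralised by `K` is trivial. -/
theorem eq_one_of_fixed {A K : Subgroup G} (hcomm : ∀ a ∈ A, ∀ b ∈ A, a * b = b * a) (hsq : ∀ a ∈ A, a ^ 2 = 1)
    (hKA : K ≤ normalizer (A : Set G)) (h2 : ∀ x ∈ K, ∀ n : ℕ, x ^ 2 ^ n = 1 → ∀ a ∈ A, x * a = a * x)
    {b : G} (hb : b ∈ ⁅K, A⁆) (hbK : ∀ x ∈ K, x * b = b * x) : b = 1 := by
  classical
  have : Fintype G := Fintype.ofFinite G
  let _ : CommGroup A := { (inferInstance : Group A) with mul_comm := fun a b => Subtype.ext (hcomm a a.2 b b.2) }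
  -- the action
  let φ : K →* MulAut A :=
    { toFun := fun x =>
        { toFun := fun a => ⟨x * a * (x : G)⁻¹, (mem_normalizer_iff.1 (hKA x.2) a).1 a.2⟩
          invFun := fun a => ⟨(x : G)⁻¹ * a * x, by
            have := (mem_normalizer_iff.1 (inv_mem (hKA x.2)) a).1 a.2
            rwa [inv_inv] at this⟩
          left_inv := fun a => Subtype.ext (by simp only; group)
          right_inv := fun a => Subtype.ext (by simp only; group)
          map_mul' := fun a b => Subtype.ext (by simp only [Subgroup.coe_mul]; group) }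
      map_one' := by ext a; simp
      map_mul' := fun x y => by ext a; simp [mul_assoc] }
  have hφ : ∀ (x : K) (a : A), ((φ x a : A) : G) = x * a * (x : G)⁻¹ := fun _ _ => rfl
  have hfin : Finite (φ.range) := inferInstance
  have : Fintype φ.range := Fintype.ofFinite _
  -- the image has odd order
  have hodd : ¬ 2 ∣ Fintype.card φ.range := by
    intro hdvd
    have : Fact (Nat.Prime 2) := ⟨Nat.prime_two⟩
    obtain ⟨⟨g, x, rfl⟩, hg⟩ := exists_prime_orderOf_dvd_card 2 hdvd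
    have hx2 : φ x ^ 2 = 1 := by
      have h := pow_orderOf_eq_one (⟨φ x, x, rfl⟩ : φ.range)
      rw [hg] at h
      exact congrArg Subtype.val h
    obtain ⟨n, N, hN, hord⟩ := Nat.exists_eq_two_pow_mul_odd (orderOf_pos (x : G)).ne'
    have h3 : φ (x ^ N) = 1 := by
      ext a
      rw [hφ]
      have h4 := h2 _ (x ^ N).2 n (by
        rw [Subgroup.coe_pow, ← pow_mul, mul_comm, ← hord, pow_orderOf_eq_one]) a a.2
      rw [h4]
      simp
    have h4 : φ x = 1 := by
      rw [map_pow] at h3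
      obtain ⟨j, hj⟩ := hN
      rw [hj, pow_add, pow_mul, hx2, one_pow, one_mul, pow_one] at h3
      exact h3
    have h5 : (⟨φ x, x, rfl⟩ : φ.range) = 1 := Subtype.ext h4
    rw [h5, orderOf_one] at hg
    exact absurd hg (by norm_num)
  -- the trace
  let tr : A →* A :=
    { toFun := fun a => ∏ g : φ.range, (g : MulAut A) a
      map_one' := by simp
      map_mul' := fun a b => by simp [Finset.prod_mul_distrib] }
  have htr : ∀ a, tr a = ∏ g : φ.range, (g : MulAut A) a := fun _ => rfl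
  have htr1 : ∀ (x : K) (a : A), tr (φ x a) = tr a := by
    intro x a
    rw [htr, htr]
    refine Fintype.prod_equiv (Equiv.mulRight (⟨φ x, x, rfl⟩ : φ.range)) _ _ fun g => ?_
    rfl
  -- the trace is trivial on the commutator subgroup
  have hKAA : ⁅K, A⁆ ≤ A := by
    rw [commutator_le]
    intro x hx a ha
    have := (mem_normalizer_iff.1 (hKA hx) a).1 ha
    rw [commutatorElement_def]
    exact mul_mem this (inv_mem ha)
  have hker : ⁅K, A⁆ ≤ (tr.ker).map A.subtype := by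
    rw [commutator_le]
    intro x hx a ha
    refine ⟨φ ⟨x, hx⟩ ⟨a, ha⟩ * (⟨a, ha⟩ : A)⁻¹, ?_, ?_⟩
    · change tr _ = 1
      rw [map_mul, htr1, map_inv, mul_inv_cancel]
    · rw [commutatorElement_def]
      rfl
  obtain ⟨c, hc, rfl⟩ := hker hb
  have h6 : tr c = c := by
    have h7 : ∀ g : φ.range, (g : MulAut A) c = c := by
      rintro ⟨g, x, rfl⟩
      apply Subtype.ext
      rw [hφ]
      have := hbK x x.2
      change (x : G) * (c : G) = c * x at this
      rw [this]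
      group
    rw [htr, Finset.prod_congr rfl fun g _ => h7 g, Finset.prod_const, Finset.card_univ]
    have h8 : c ^ 2 = 1 := Subtype.ext (hsq c c.2)
    obtain ⟨j, hj⟩ := (Nat.odd_iff.2 (Nat.two_dvd_ne_zero.1 hodd) : Odd (Fintype.card φ.range))
    rw [hj, pow_add, pow_mul, h8, one_pow, one_mul, pow_one]
  have h9 : tr c = 1 := hc
  rw [h6] at h9
  rw [h9]
  rfl

/-- If `C_A(S)` is centralised by `K`, then `K` centralises `A`. -/
theorem le_centralizer_of_fixed {A K S : Subgroup G} (hcomm : ∀ a ∈ A, ∀ b ∈ A, a * b = b * a)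
    (hsq : ∀ a ∈ A, a ^ 2 = 1) (hKA : K ≤ normalizer (A : Set G))
    (h2 : ∀ x ∈ K, ∀ n : ℕ, x ^ 2 ^ n = 1 → ∀ a ∈ A, x * a = a * x) (hS : IsPGroup 2 S)
    (hSA : S ≤ normalizer (A : Set G)) (hSK : S ≤ normalizer (K : Set G))
    (hfix : ∀ a ∈ A, (∀ s ∈ S, s * a = a * s) → ∀ x ∈ K, x * a = a * x) : K ≤ centralizer (A : Set G) := by
  rw [← commutator_eq_bot_iff_le_centralizer]
  by_contra hne
  have hKAA : ⁅K, A⁆ ≤ A := by
    rw [commutator_le]
    intro x hx a ha
    have := (mem_normalizer_iff.1 (hKA hx) a).1 ha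
    rw [commutatorElement_def]
    exact mul_mem this (inv_mem ha)
  have hA2 : IsPGroup 2 A := by
    rintro ⟨a, ha⟩
    exact ⟨1, Subtype.ext (by rw [pow_one]; exact hsq a ha)⟩
  obtain ⟨b, hb, hb1, hbS⟩ := Half.exists_fixed (hA2.to_le hKAA) hne hS
    (fun s hs => by
      have h1 : s ∈ normalizer (K : Set G) := hSK hs
      have h2 : s ∈ normalizer (A : Set G) := hSA hs
      rw [Subgroup.mem_normalizer_iff_map_conj_eq] at h1 h2 ⊢
      rw [map_commutator, h1, h2])
  apply hb1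
  refine eq_one_of_fixed hcomm hsq hKA h2 hb (hfix b (hKAA hb) fun s hs => ?_)
  have := hbS s hs
  calc s * b = s * b * s⁻¹ * s := by group
    _ = b * s := by rw [this]

end Cfsg.Agent.Omega.ThmC

end

section


/-!
# THEOREM C, `q ≥ 4`: the choice of `p` and `t`

`F` a finite field of characteristic 2, `|F| ≥ 4`. There are an odd prime `p` and `t ∈ F` of order `p` such that an
automorphism of `F` of 2-power order which fixes `t` is trivial (`exists_t`).
-/

set_option autoImplicit false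

namespace Cfsg.Agent.Omega.ThmC

variable {F : Type*} [Field F] [Finite F] [CharP F 2]

omit [Finite F] in
theorem isCyclic_ringAut [Finite F] : IsCyclic (F ≃+* F) := by
  have : Fact (Nat.Prime 2) := ⟨Nat.prime_two⟩
  let _ : Algebra (ZMod 2) F := ZMod.algebra F 2
  let e : (F ≃ₐ[ZMod 2] F) →* (F ≃+* F) :=
    { toFun := fun φ => φ.toRingEquiv
      map_one' := rfl
      map_mul' := fun _ _ => rfl }
  refine isCyclic_of_surjective e fun φ => ?_
  refine ⟨AlgEquiv.ofRingEquiv (f := φ) (fun a => ?_), ?_⟩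
  · have : (φ : F →+* F).comp (algebraMap (ZMod 2) F) = algebraMap (ZMod 2) F := Subsingleton.elim _ _
    exact RingHom.congr_fun this a
  · ext
    rfl

/-- There is at most one involution in `Aut F`. -/
theorem invol_unique {a b : F ≃+* F} (ha : a ≠ 1) (hb : b ≠ 1) (ha2 : a ^ 2 = 1) (hb2 : b ^ 2 = 1) : a = b := by
  classical
  by_contra hab
  have hcyc : IsCyclic (F ≃+* F) := isCyclic_ringAut
  have hfin : Finite (F ≃+* F) := Finite.of_injective (fun f : F ≃+* F => (f : F → F)) DFunLike.coe_injective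
  let _ : Fintype (F ≃+* F) := Fintype.ofFinite _
  have h := IsCyclic.card_pow_eq_one_le (α := F ≃+* F) (n := 2) (by norm_num)
  have h2 : ({1, a, b} : Finset (F ≃+* F)) ⊆ Finset.univ.filter fun x => x ^ 2 = 1 := by
    intro x hx
    simp only [Finset.mem_insert, Finset.mem_singleton] at hx
    simp only [Finset.mem_filter, Finset.mem_univ, true_and]
    rcases hx with rfl | rfl | rfl
    · exact one_pow 2
    · exact ha2
    · exact hb2
  have h3 : ({1, a, b} : Finset (F ≃+* F)).card = 3 := by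
    rw [Finset.card_insert_of_notMem, Finset.card_pair hab]
    simp only [Finset.mem_insert, Finset.mem_singleton, not_or]
    exact ⟨Ne.symm ha, Ne.symm hb⟩
  have h4 := Finset.card_le_card h2
  omega

omit [Finite F] [CharP F 2] in
/-- a nontrivial element of 2-power order has an involution among its powers -/
theorem exists_invol {τ : F ≃+* F} {n : ℕ} (hn : τ ^ 2 ^ n = 1) (h1 : τ ≠ 1) : ∃ j : ℕ, τ ^ j ≠ 1 ∧ (τ ^ j) ^ 2 = 1 := by
  induction n with
  | zero => exact absurd (by simpa using hn) h1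
  | succ n ih =>
    by_cases h : τ ^ 2 ^ n = 1
    · exact ih h
    · exact ⟨2 ^ n, h, by rw [← pow_mul, ← pow_succ]; exact hn⟩

omit [Finite F] [CharP F 2] in
theorem pow_fix {τ : F ≃+* F} {t : F} (h : τ t = t) (j : ℕ) : (τ ^ j) t = t := by
  induction j with
  | zero => rfl
  | succ j ih =>
    rw [pow_succ]
    change (τ ^ j) (τ t) = t
    rw [h, ih]

omit [Finite F] in
theorem eq_one_of_sq {t : F} (h : t * t = 1) : t = 1 := by
  have h1 : (t - 1) * (t - 1) = 0 := by
    have h2 : (2 : F) = 0 := CharTwo.two_eq_zero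
    linear_combination h + (1 - t) * h2
  have h3 : t - 1 = 0 := by
    rcases mul_eq_zero.1 h1 with h | h <;> exact h
  exact sub_eq_zero.1 h3

theorem exists_t (h4 : 4 ≤ Nat.card F) : ∃ (p : ℕ) (t : F), p.Prime ∧ p ≠ 2 ∧ t ≠ 1 ∧ t ^ p = 1 ∧
    ∀ (τ : F ≃+* F) (n : ℕ), τ ^ 2 ^ n = 1 → τ t = t → τ = 1 := by
  classical
  by_cases hex : ∃ τ₀ : F ≃+* F, τ₀ ≠ 1 ∧ τ₀ ^ 2 = 1
  · obtain ⟨τ₀, h1, h2⟩ := hex
    obtain ⟨x, hx⟩ : ∃ x, τ₀ x ≠ x := by
      by_contra hcon
      push Not at hcon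
      exact h1 (RingEquiv.ext hcon)
    have hx0 : x ≠ 0 := by
      rintro rfl
      exact hx (map_zero τ₀)
    have hτx0 : τ₀ x ≠ 0 := fun h => hx0 ((map_eq_zero_iff τ₀ τ₀.injective).1 h)
    have hττ : ∀ y, τ₀ (τ₀ y) = y := fun y => by
      have := congrArg (fun f : F ≃+* F => f y) h2
      rwa [pow_two] at this
    set y := x / τ₀ x with hy
    have hy1 : y ≠ 1 := by
      intro h
      rw [hy, div_eq_one_iff_eq hτx0] at h
      exact hx h.symm
    have hyy : y * τ₀ y = 1 := by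
      rw [hy, map_div₀, hττ]
      field_simp
    have hy0 : y ≠ 0 := div_ne_zero hx0 hτx0
    -- an element of prime order
    set u := Units.mk0 y hy0 with hu
    have hu1 : orderOf u ≠ 1 := by
      intro h
      rw [orderOf_eq_one_iff] at h
      exact hy1 (congrArg Units.val h)
    have hupos : 0 < orderOf u := orderOf_pos u
    have hp := Nat.minFac_prime hu1
    set p := (orderOf u).minFac with hpdef
    obtain ⟨c, hc⟩ := Nat.minFac_dvd (orderOf u)
    rw [← hpdef] at hc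
    have hc0 : c ≠ 0 := by
      rintro rfl
      omega
    have ht1 : y ^ c ≠ 1 := by
      intro h
      have h3 : u ^ c = 1 := Units.ext (by rw [Units.val_pow_eq_pow_val]; exact h)
      have h4 := orderOf_dvd_of_pow_eq_one h3
      have h5 := Nat.le_of_dvd (Nat.pos_of_ne_zero hc0) h4
      rw [hc] at h5
      have h6 := hp.two_le
      nlinarith [Nat.pos_of_ne_zero hc0]
    have htp : (y ^ c) ^ p = 1 := by
      rw [← pow_mul, mul_comm c p, ← hc]
      have := pow_orderOf_eq_one u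
      have h3 := congrArg Units.val this
      rw [Units.val_pow_eq_pow_val] at h3
      exact h3
    have htt : y ^ c * τ₀ (y ^ c) = 1 := by rw [map_pow, ← mul_pow, hyy, one_pow]
    refine ⟨p, y ^ c, hp, ?_, ht1, htp, fun τ n hn hfix => ?_⟩
    · intro h
      rw [h, pow_two] at htp
      exact ht1 (eq_one_of_sq htp)
    · by_contra hτ
      obtain ⟨j, hj1, hj2⟩ := exists_invol hn hτ
      have h5 : τ ^ j = τ₀ := invol_unique hj1 h1 hj2 h2
      have h6 := pow_fix hfix j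
      rw [h5] at h6
      rw [h6] at htt
      exact ht1 (eq_one_of_sq htt)
  · push Not at hex
    let _ : Fintype F := Fintype.ofFinite F
    have hcard : Fintype.card Fˣ = Fintype.card F - 1 := Fintype.card_units F
    rw [Nat.card_eq_fintype_card] at h4
    have h5 : Fintype.card Fˣ ≠ 1 := by omega
    have hp := Nat.minFac_prime h5
    have : Fact (Fintype.card Fˣ).minFac.Prime := ⟨hp⟩
    obtain ⟨u, hu⟩ := exists_prime_orderOf_dvd_card _ (Nat.minFac_dvd (Fintype.card Fˣ))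
    have hu1 : (u : F) ≠ 1 := by
      intro h
      have h6 : u = 1 := Units.ext h
      rw [h6, orderOf_one] at hu
      exact hp.one_lt.ne hu
    have hup : (u : F) ^ (Fintype.card Fˣ).minFac = 1 := by
      have := pow_orderOf_eq_one u
      rw [hu] at this
      have h3 := congrArg Units.val this
      rw [Units.val_pow_eq_pow_val] at h3
      exact h3
    refine ⟨_, u, hp, ?_, hu1, hup, fun τ n hn hfix => ?_⟩
    · intro h
      rw [h, pow_two] at hup
      exact hu1 (eq_one_of_sq hup)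
    · by_contra hτ
      obtain ⟨j, hj1, hj2⟩ := exists_invol hn hτ
      exact hex _ hj1 hj2

end Cfsg.Agent.Omega.ThmC

end
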